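import Cfsg.Prelude.Def_LocalEven
import Cfsg.Agent.Lib.Fusion.Involves
import Mathlib.GroupTheory.PGroup
import Mathlib.GroupTheory.Sylow
import Mathlib.Algebra.Group.Pointwise.Set.Basic

/-!
Elementary abelian `2`-groups acting on a vector space of characteristic two: the condition that no
subgroup of a given group is an offender.
-/

set_option autoImplicit false
set_option linter.unusedSectionVars false
set_option linter.style.haveILetI false

namespace Cfsg.Agent.Lib.SFourGeneral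

universe u v

variable {G : Type u} [Group G] {V : Type v} [AddCommGroup V] [DistribMulAction G V]

/-- The points fixed by a subgroup. -/
def fixP (R : Subgroup G) : AddSubgroup V where
  carrier := {v | ∀ r ∈ R, r • v = v}
  zero_mem' := fun r _ => smul_zero r
  add_mem' ha hb := fun r hr => by rw [smul_add, ha r hr, hb r hr]
  neg_mem' ha := fun r hr => by rw [smul_neg, ha r hr]

/-- The pointwise stabiliser of a subgroup. -/
def fixer (W : AddSubgroup V) : Subgroup G where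
  carrier := {g | ∀ w ∈ W, g • w = w}
  one_mem' := fun w _ => one_smul G w
  mul_mem' ha hb := fun w hw => by rw [mul_smul, hb w hw, ha w hw]
  inv_mem' ha := fun w hw => inv_smul_eq_iff.2 (ha w hw).symm

theorem mem_fixP {R : Subgroup G} {v : V} : v ∈ fixP R ↔ ∀ r ∈ R, r • v = v := Iff.rfl

theorem mem_fixer {W : AddSubgroup V} {g : G} : g ∈ fixer W ↔ ∀ w ∈ W, g • w = w := Iff.rfl

theorem fixer_mono {W W' : AddSubgroup V} (h : W ≤ W') : (fixer W' : Subgroup G) ≤ fixer W :=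
  fun _ hg w hw => hg w (h hw)

theorem fixP_mono {R R' : Subgroup G} (h : R ≤ R') : (fixP R' : AddSubgroup V) ≤ fixP R :=
  fun _ hv r hr => hv r (h hr)

theorem le_fixer_iff {R : Subgroup G} {W : AddSubgroup V} : R ≤ fixer W ↔ W ≤ fixP R :=
  ⟨fun h w hw r hr => h hr w hw, fun h r hr w hw => h hw r hr⟩

theorem fixer_sup (W W' : AddSubgroup V) : (fixer (W ⊔ W') : Subgroup G) = fixer W ⊓ fixer W' := by
  refine le_antisymm (le_inf (fixer_mono le_sup_left) (fixer_mono le_sup_right)) fun g hg w hw => ?_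
  obtain ⟨a, ha, b, hb, rfl⟩ := AddSubgroup.mem_sup.1 hw
  rw [smul_add, hg.1 a ha, hg.2 b hb]

theorem fixer_top [FaithfulSMul G V] : (fixer (⊤ : AddSubgroup V) : Subgroup G) = ⊥ := by
  rw [eq_bot_iff]
  exact fun g hg => Subgroup.mem_bot.2 (eq_of_smul_eq_smul fun v : V => by
    rw [one_smul]; exact hg v (AddSubgroup.mem_top v))

/-- No subgroup of `S` is an offender on `W`. -/
def Pr (S : Subgroup G) (W : AddSubgroup V) : Prop :=
  ∀ R : Subgroup G, R ≤ S → (∀ r ∈ R, r * r ∈ fixer W) → ¬ R ≤ fixer W →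
    (fixer W).relIndex R * Nat.card ↥(W ⊓ fixP R) < Nat.card W

theorem Pr.mono {S S' : Subgroup G} {W : AddSubgroup V} (h : Pr S W) (hS : S' ≤ S) : Pr S' W :=
  fun R hR => h R (hR.trans hS)

theorem pr_of_le_fixer {S : Subgroup G} {W : AddSubgroup V} (h : S ≤ fixer W) : Pr S W :=
  fun _ hR _ hn => absurd (hR.trans h) hn

theorem card_add_sup_inf (H K : AddSubgroup V) :
    Nat.card ↥(H ⊔ K) * Nat.card ↥(H ⊓ K) = Nat.card H * Nat.card K := by
  have h1 := AddSubgroup.relIndex_mul_relIndex ⊥ H (H ⊔ K) bot_le le_sup_left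
  have h2 := AddSubgroup.relIndex_mul_relIndex ⊥ (H ⊓ K) K bot_le inf_le_right
  rw [AddSubgroup.relIndex_bot_left, AddSubgroup.relIndex_bot_left] at h1 h2
  rw [AddSubgroup.inf_relIndex_right] at h2
  rw [sup_comm, AddSubgroup.relIndex_sup_right] at h1
  rw [sup_comm, ← h1, mul_assoc, mul_comm (H.relIndex K), h2]

variable [Finite V]

/-- Offender-freeness is preserved under sums. -/
theorem Pr.sup {S : Subgroup G} {W₁ W₂ : AddSubgroup V} (h₁ : Pr S W₁) (h₂ : Pr S W₂) : Pr S (W₁ ⊔ W₂) := by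
  intro R hRS hsq hn
  set R₁ := fixer W₁ ⊓ R with hR₁
  set F := (W₁ ⊔ W₂) ⊓ fixP R with hF
  set i₁ := (fixer W₁).relIndex R with hi₁
  set i₂ := (fixer W₂).relIndex R₁ with hi₂
  have hidx : (fixer (W₁ ⊔ W₂)).relIndex R = i₁ * i₂ := by
    rw [fixer_sup, hi₁, hi₂, hR₁, inf_comm (fixer W₁) (fixer W₂)]
    have h := Subgroup.relIndex_mul_relIndex (fixer W₂ ⊓ fixer W₁ ⊓ R) (fixer W₁ ⊓ R) R
      (inf_le_inf_right _ inf_le_right) inf_le_right
    rw [Subgroup.inf_relIndex_right, Subgroup.inf_relIndex_right,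
      show fixer W₂ ⊓ fixer W₁ ⊓ R = fixer W₂ ⊓ (fixer W₁ ⊓ R) from inf_assoc _ _ _,
      Subgroup.inf_relIndex_right] at h
    rw [← h, mul_comm]
  have hb₁ : i₁ * Nat.card ↥(W₁ ⊓ fixP R) ≤ Nat.card W₁ ∧
      (¬ R ≤ fixer W₁ → i₁ * Nat.card ↥(W₁ ⊓ fixP R) < Nat.card W₁) := by
    by_cases h : R ≤ fixer W₁
    · refine ⟨?_, fun h' => absurd h h'⟩
      rw [hi₁, Subgroup.relIndex_eq_one.2 h, one_mul]
      exact AddSubgroup.card_le_of_le inf_le_left
    · have := h₁ R hRS (fun r hr => fixer_mono le_sup_left (hsq r hr)) h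
      exact ⟨this.le, fun _ => this⟩
  have hb₂ : i₂ * Nat.card ↥(W₂ ⊓ fixP R₁) ≤ Nat.card W₂ ∧
      (¬ R₁ ≤ fixer W₂ → i₂ * Nat.card ↥(W₂ ⊓ fixP R₁) < Nat.card W₂) := by
    by_cases h : R₁ ≤ fixer W₂
    · refine ⟨?_, fun h' => absurd h h'⟩
      rw [hi₂, Subgroup.relIndex_eq_one.2 h, one_mul]
      exact AddSubgroup.card_le_of_le inf_le_left
    · have := h₂ R₁ (inf_le_right.trans hRS) (fun r hr => fixer_mono le_sup_right (hsq r hr.2)) h
      exact ⟨this.le, fun _ => this⟩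
  set W₂' := W₂ ⊓ fixP R₁ with hW₂'
  have hFle : F ≤ W₁ ⊔ W₂' := by
    rintro f ⟨hf, hfR⟩
    obtain ⟨a, ha, b, hb, rfl⟩ := AddSubgroup.mem_sup.1 hf
    refine AddSubgroup.mem_sup.2 ⟨a, ha, b, ⟨hb, fun r hr => ?_⟩, rfl⟩
    have h := hfR r hr.2
    rwa [smul_add, hr.1 a ha, add_right_inj] at h
  have hcap : W₁ ⊓ W₂' = W₁ ⊓ W₂ :=
    le_antisymm (inf_le_inf_left _ inf_le_left)
      fun w hw => ⟨hw.1, hw.2, fun r hr => hr.1 w hw.1⟩
  have hF1 : W₁ ⊓ F = W₁ ⊓ fixP R :=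
    le_antisymm (inf_le_inf_left _ inf_le_right) fun w hw => ⟨hw.1, AddSubgroup.mem_sup_left hw.1, hw.2⟩
  have e1 := card_add_sup_inf W₁ F
  rw [hF1] at e1
  have e2 := card_add_sup_inf W₁ W₂'
  rw [hcap] at e2
  have e3 := card_add_sup_inf W₁ W₂
  have e4 : Nat.card ↥(W₁ ⊔ F) ≤ Nat.card ↥(W₁ ⊔ W₂') := AddSubgroup.card_le_of_le (sup_le le_sup_left hFle)
  have hpos : 0 < Nat.card ↥(W₁ ⊓ W₂) := Nat.card_pos
  have e5 : Nat.card ↥(W₁ ⊔ W₂') * Nat.card W₂ = Nat.card ↥(W₁ ⊔ W₂) * Nat.card W₂' := by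
    refine Nat.eq_of_mul_eq_mul_right (Nat.mul_pos hpos (Nat.card_pos (α := ↥W₁))) ?_
    calc Nat.card ↥(W₁ ⊔ W₂') * Nat.card W₂ * (Nat.card ↥(W₁ ⊓ W₂) * Nat.card W₁)
        = (Nat.card ↥(W₁ ⊔ W₂') * Nat.card ↥(W₁ ⊓ W₂)) * (Nat.card W₁ * Nat.card W₂) := by ring
      _ = (Nat.card W₁ * Nat.card W₂') * (Nat.card ↥(W₁ ⊔ W₂) * Nat.card ↥(W₁ ⊓ W₂)) := by rw [e2, e3]
      _ = _ := by ring
  have hne : ¬ R ≤ fixer W₁ ∨ ¬ R₁ ≤ fixer W₂ := by
    by_contra hc
    push Not at hc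
    refine hn ?_
    rw [fixer_sup]
    exact le_inf hc.1 fun r hr => hc.2 ⟨hc.1 hr, hr⟩
  have hlt : (i₁ * Nat.card ↥(W₁ ⊓ fixP R)) * (i₂ * Nat.card W₂') < Nat.card W₁ * Nat.card W₂ := by
    rcases hne with h | h
    · exact lt_of_le_of_lt (Nat.mul_le_mul_left _ hb₂.1)
        (Nat.mul_lt_mul_of_pos_right (hb₁.2 h) Nat.card_pos)
    · exact lt_of_le_of_lt (Nat.mul_le_mul_right _ hb₁.1)
        (Nat.mul_lt_mul_of_pos_left (hb₂.2 h) Nat.card_pos)
  rw [hidx]
  refine Nat.lt_of_mul_lt_mul_right (a := Nat.card W₁ * Nat.card W₂) ?_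
  calc i₁ * i₂ * Nat.card F * (Nat.card W₁ * Nat.card W₂)
      = i₁ * i₂ * (Nat.card W₁ * Nat.card F) * Nat.card W₂ := by ring
    _ = i₁ * i₂ * (Nat.card ↥(W₁ ⊔ F) * Nat.card ↥(W₁ ⊓ fixP R)) * Nat.card W₂ := by rw [e1]
    _ ≤ i₁ * i₂ * (Nat.card ↥(W₁ ⊔ W₂') * Nat.card ↥(W₁ ⊓ fixP R)) * Nat.card W₂ :=
        Nat.mul_le_mul_right _ (Nat.mul_le_mul_left _ (Nat.mul_le_mul_right _ e4))
    _ = (i₁ * Nat.card ↥(W₁ ⊓ fixP R)) * i₂ * (Nat.card ↥(W₁ ⊔ W₂') * Nat.card W₂) := by ring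
    _ = Nat.card ↥(W₁ ⊔ W₂) * ((i₁ * Nat.card ↥(W₁ ⊓ fixP R)) * (i₂ * Nat.card W₂')) := by rw [e5]; ring
    _ < Nat.card ↥(W₁ ⊔ W₂) * (Nat.card W₁ * Nat.card W₂) := Nat.mul_lt_mul_of_pos_left hlt Nat.card_pos

theorem Pr.bot (S : Subgroup G) : Pr S (⊥ : AddSubgroup V) :=
  pr_of_le_fixer fun g _ w hw => by rw [AddSubgroup.mem_bot] at hw; rw [hw, smul_zero]

theorem Pr.iSup {ι : Type*} [Finite ι] {S : Subgroup G} {W : ι → AddSubgroup V} (h : ∀ i, Pr S (W i)) :
    Pr S (⨆ i, W i) := by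
  classical
  haveI := Fintype.ofFinite ι
  rw [← Finset.sup_univ_eq_iSup]
  refine Finset.sup_induction (p := fun U => Pr S U) (Pr.bot S) (fun a ha b hb => ha.sup hb) fun i _ => h i

/-- The translate of a subgroup. -/
def mv (g : G) (W : AddSubgroup V) : AddSubgroup V := W.map (DistribSMul.toAddMonoidHom V g)

theorem mem_mv {g : G} {W : AddSubgroup V} {v : V} : v ∈ mv g W ↔ g⁻¹ • v ∈ W := by
  constructor
  · rintro ⟨w, hw, rfl⟩
    show g⁻¹ • g • w ∈ W
    rwa [inv_smul_smul]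
  · intro h
    exact ⟨g⁻¹ • v, h, smul_inv_smul g v⟩

theorem smul_mem_mv {g : G} {W : AddSubgroup V} {w : V} (hw : w ∈ W) : g • w ∈ mv g W := ⟨w, hw, rfl⟩

theorem mv_one (W : AddSubgroup V) : mv (1 : G) W = W := by
  ext v; rw [mem_mv, inv_one, one_smul]

theorem mv_mul (g h : G) (W : AddSubgroup V) : mv (g * h) W = mv g (mv h W) := by
  ext v; rw [mem_mv, mem_mv, mem_mv, mul_inv_rev, mul_smul]

theorem card_mv (g : G) (W : AddSubgroup V) : Nat.card ↥(mv g W) = Nat.card W :=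
  (Nat.card_congr (AddSubgroup.equivMapOfInjective W _ (MulAction.injective g)).toEquiv).symm

/-- The conjugate of a subgroup. -/
def cj (g : G) (A : Subgroup G) : Subgroup G := A.map (MulAut.conj g).toMonoidHom

omit [AddCommGroup V] [DistribMulAction G V] [Finite V] in
theorem mem_cj {g x : G} {A : Subgroup G} : x ∈ cj g A ↔ g⁻¹ * x * g ∈ A := by
  constructor
  · rintro ⟨a, ha, rfl⟩
    show g⁻¹ * (MulAut.conj g a) * g ∈ A
    rwa [MulAut.conj_apply, show g⁻¹ * (g * a * g⁻¹) * g = a by group]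
  · intro h
    refine ⟨_, h, ?_⟩
    show MulAut.conj g (g⁻¹ * x * g) = x
    rw [MulAut.conj_apply]; group

omit [AddCommGroup V] [DistribMulAction G V] [Finite V] in
theorem conj_mem_cj {g a : G} {A : Subgroup G} (ha : a ∈ A) : g * a * g⁻¹ ∈ cj g A := ⟨a, ha, rfl⟩

omit [AddCommGroup V] [DistribMulAction G V] [Finite V] in
theorem cj_one (A : Subgroup G) : cj 1 A = A := by ext x; rw [mem_cj]; simp

omit [AddCommGroup V] [DistribMulAction G V] [Finite V] in
theorem cj_mul (g h : G) (A : Subgroup G) : cj (g * h) A = cj g (cj h A) := by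
  ext x
  rw [mem_cj, mem_cj, mem_cj, show (g * h)⁻¹ * x * (g * h) = h⁻¹ * (g⁻¹ * x * g) * h by group]

omit [AddCommGroup V] [DistribMulAction G V] [Finite V] in
theorem cj_mono {g : G} {A B : Subgroup G} (h : A ≤ B) : cj g A ≤ cj g B := Subgroup.map_mono h

omit [AddCommGroup V] [DistribMulAction G V] [Finite V] in
theorem card_cj (g : G) (A : Subgroup G) : Nat.card ↥(cj g A) = Nat.card A :=
  (Nat.card_congr (A.equivMapOfInjective _ (MulAut.conj g).injective).toEquiv).symm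

omit [AddCommGroup V] [DistribMulAction G V] [Finite V] in
theorem cj_le_iff {g : G} {A B : Subgroup G} : cj g A ≤ B ↔ A ≤ cj g⁻¹ B := by
  constructor
  · intro h a ha; rw [mem_cj, inv_inv]; exact h (conj_mem_cj ha)
  · rintro h x ⟨a, ha, rfl⟩
    have := mem_cj.1 (h ha)
    rwa [inv_inv] at this

theorem fixer_mv (g : G) (W : AddSubgroup V) : (fixer (mv g W) : Subgroup G) = cj g (fixer W) := by
  ext x
  rw [mem_cj, mem_fixer, mem_fixer]
  constructor
  · intro h w hw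
    rw [mul_smul, mul_smul, h _ (smul_mem_mv hw), inv_smul_smul]
  · rintro h _ ⟨w, hw, rfl⟩
    show x • g • w = g • w
    have := h w hw
    rw [mul_smul, mul_smul] at this
    exact inv_smul_eq_iff.1 this

theorem fixP_cj (g : G) (R : Subgroup G) : (fixP (cj g R) : AddSubgroup V) = mv g (fixP R) := by
  ext v
  rw [mem_mv, mem_fixP, mem_fixP]
  constructor
  · intro h r hr
    have := h _ (conj_mem_cj (g := g) hr)
    rw [mul_smul, mul_smul] at this
    exact (inv_smul_eq_iff.2 this.symm).symm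
  · rintro h _ ⟨r, hr, rfl⟩
    show (g * r * g⁻¹) • v = v
    rw [mul_smul, mul_smul, h r hr, smul_inv_smul]

theorem Pr.conj {S : Subgroup G} {W : AddSubgroup V} (h : Pr S W) (g : G) : Pr (cj g S) (mv g W) := by
  intro R hR hsq hn
  set R0 := cj g⁻¹ R with hR0
  have hR' : R = cj g R0 := by rw [hR0, ← cj_mul, mul_inv_cancel, cj_one]
  have h0 := h R0 (by rw [hR0, cj_le_iff, inv_inv]; exact hR) (fun r hr => by
      rw [hR0, mem_cj, inv_inv] at hr
      have := hsq _ hr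
      rw [fixer_mv, mem_cj, show g⁻¹ * (g * r * g⁻¹ * (g * r * g⁻¹)) * g = r * r by group] at this
      exact this)
    (fun h' => hn (by rw [hR', fixer_mv]; exact cj_mono h'))
  rw [card_mv, fixer_mv, hR', fixP_cj,
    show mv g W ⊓ mv g (fixP R0) = mv g (W ⊓ fixP R0) from
      (AddSubgroup.map_inf _ _ _ (MulAction.injective g)).symm, card_mv,
    show (cj g (fixer W)).relIndex (cj g R0) = (fixer W).relIndex R0 from
      Subgroup.relIndex_map_map_of_injective _ _ (MulAut.conj g).injective]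
  exact h0

/-- Translates of a subgroup under a subgroup span its closure. -/
def clo (H : Subgroup G) (W : AddSubgroup V) : AddSubgroup V := ⨆ h : H, mv (h : G) W

theorem le_clo (H : Subgroup G) (W : AddSubgroup V) : W ≤ clo H W :=
  le_iSup_of_le (1 : H) (le_of_eq (mv_one W).symm)

theorem smul_mem_clo {H : Subgroup G} {W : AddSubgroup V} {g : G} (hg : g ∈ H) {v : V} (hv : v ∈ clo H W) :
    g • v ∈ clo H W := by
  have h1 : mv g (clo H W) ≤ clo H W := by
    rw [mv, clo, AddSubgroup.map_iSup]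
    refine iSup_le fun h => ?_
    rw [show (mv (h : G) W).map (DistribSMul.toAddMonoidHom V g) = mv (((⟨g, hg⟩ * h : H) : G)) W from
      (mv_mul g (h : G) W).symm]
    exact le_iSup (fun h : H => mv (h : G) W) (⟨g, hg⟩ * h)
  exact h1 (smul_mem_mv hv)

theorem clo_le {H : Subgroup G} {W U : AddSubgroup V} (hW : W ≤ U) (hU : ∀ g ∈ H, ∀ v ∈ U, g • v ∈ U) :
    clo H W ≤ U := iSup_le fun h => by rintro _ ⟨w, hw, rfl⟩; exact hU h h.2 w (hW hw)

/-- A `2`-group fixes a nonzero point of a quotient of a space of characteristic two. -/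
theorem exists_fixed_mod [Finite G] (h2 : ∀ v : V, v + v = 0) (P : Subgroup G) (hP : IsPGroup 2 P)
    (N : AddSubgroup V) (hN : ∀ p ∈ P, ∀ v ∈ N, p • v ∈ N) (hne : N ≠ ⊤) :
    ∃ v, v ∉ N ∧ ∀ p ∈ P, p • v - v ∈ N := by
  classical
  haveI : Fact (Nat.Prime 2) := ⟨Nat.prime_two⟩
  letI : MulAction P (V ⧸ N) :=
    { smul := fun p => QuotientAddGroup.map N N (DistribSMul.toAddMonoidHom V (p : G)) (fun v hv => hN p p.2 v hv)
      one_smul := fun q => by
        induction q using QuotientAddGroup.induction_on with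
        | _ v => show QuotientAddGroup.mk ((1 : G) • v) = _; rw [one_smul]
      mul_smul := fun p p' q => by
        induction q using QuotientAddGroup.induction_on with
        | _ v => show QuotientAddGroup.mk (((p : G) * p') • v) = QuotientAddGroup.mk ((p : G) • (p' : G) • v)
                 rw [mul_smul] }
  obtain ⟨v, hv⟩ : ∃ v, v ∉ N := by
    by_contra h
    push Not at h
    exact hne (eq_top_iff.2 fun v _ => h v)
  have h0 : (0 : V ⧸ N) ∈ MulAction.fixedPoints P (V ⧸ N) := fun p => by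
    show QuotientAddGroup.mk ((p : G) • (0 : V)) = _
    rw [smul_zero]; rfl
  have heven : 2 ∣ Nat.card (V ⧸ N) := by
    have : addOrderOf (QuotientAddGroup.mk v : V ⧸ N) = 2 := by
      rw [addOrderOf_eq_prime_iff]
      refine ⟨?_, fun h => hv ((QuotientAddGroup.eq_zero_iff v).1 h)⟩
      rw [two_nsmul, ← QuotientAddGroup.mk_add, h2]; rfl
    rw [← this]
    exact addOrderOf_dvd_natCard _
  obtain ⟨q, hq, hq0⟩ := hP.exists_fixed_point_of_prime_dvd_card_of_fixed_point _ heven h0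
  induction q using QuotientAddGroup.induction_on with
  | _ w =>
    refine ⟨w, fun h => hq0 ((QuotientAddGroup.eq_zero_iff w).2 h).symm, fun p hp => ?_⟩
    have := hq ⟨p, hp⟩
    exact QuotientAddGroup.eq_iff_sub_mem.1 this

theorem fixP_ne_bot [Finite G] (h2 : ∀ v : V, v + v = 0) (P : Subgroup G) (hP : IsPGroup 2 P)
    (U : AddSubgroup V) (hU : ∀ p ∈ P, ∀ v ∈ U, p • v ∈ U) (hne : U ≠ ⊥) : U ⊓ fixP P ≠ ⊥ := by
  letI : DistribMulAction P U :=
    { smul := fun p u => ⟨(p : G) • (u : V), hU p p.2 u u.2⟩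
      one_smul := fun u => Subtype.ext (one_smul G (u : V))
      mul_smul := fun p p' u => Subtype.ext (mul_smul (p : G) (p' : G) (u : V))
      smul_zero := fun p => Subtype.ext (smul_zero (p : G))
      smul_add := fun p a b => Subtype.ext (smul_add (p : G) (a : V) (b : V)) }
  have hne' : (⊥ : AddSubgroup U) ≠ ⊤ := by
    haveI : Nontrivial U := (AddSubgroup.nontrivial_iff_ne_bot U).2 hne
    exact bot_ne_top
  obtain ⟨u, hu, hfix⟩ := exists_fixed_mod (G := P) (fun v : U => Subtype.ext (h2 v)) ⊤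
    (hP.of_equiv Subgroup.topEquiv.symm) ⊥ (fun p _ v hv => by
      rw [AddSubgroup.mem_bot] at hv; rw [hv, smul_zero]; exact zero_mem _) hne'
  intro h
  refine hu (AddSubgroup.mem_bot.2 (Subtype.ext (AddSubgroup.mem_bot.1 (h ▸ ⟨u.2, fun p hp => ?_⟩))))
  have := hfix ⟨p, hp⟩ (Subgroup.mem_top _)
  rw [AddSubgroup.mem_bot, sub_eq_zero] at this
  exact congrArg Subtype.val this

end Cfsg.Agent.Lib.SFourGeneral
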