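import Cfsg.Agent.Lib.SFourGeneral.Base
import Cfsg.Agent.Lib.Cores.PCore
import Mathlib.GroupTheory.Nilpotent

/-!
Conjugation into Sylow subgroups, and the Frattini argument inside a subgroup.
-/

set_option autoImplicit false
set_option linter.style.haveILetI false

namespace Cfsg.Agent.Lib.SFourGeneral

universe u

variable {G : Type u} [Group G] [Finite G]

/-- A `2`-subgroup of `K` is conjugate in `K` into a Sylow subgroup of `K`. -/
theorem exists_cj_le (K : Subgroup G) (T : Sylow 2 K) {P : Subgroup G} (hP : IsPGroup 2 P) (hPK : P ≤ K) :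
    ∃ x ∈ K, cj x P ≤ (T : Subgroup K).map K.subtype := by
  haveI : Fact (Nat.Prime 2) := ⟨Nat.prime_two⟩
  obtain ⟨P', hP'⟩ := (hP.comap_subtype (K := K)).exists_le_sylow
  obtain ⟨x, hx⟩ := MulAction.exists_smul_eq K P' T
  refine ⟨x, x.2, ?_⟩
  rintro _ ⟨p, hp, rfl⟩
  refine ⟨MulAut.conj x ⟨p, hPK hp⟩, ?_, rfl⟩
  rw [← hx]
  exact ⟨_, hP' (show ((⟨p, hPK hp⟩ : K) : G) ∈ P from hp), rfl⟩

theorem exists_cj_le_sylow (S : Sylow 2 G) {P : Subgroup G} (hP : IsPGroup 2 P) :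
    ∃ g : G, P ≤ cj g (S : Subgroup G) := by
  haveI : Fact (Nat.Prime 2) := ⟨Nat.prime_two⟩
  obtain ⟨P', hP'⟩ := hP.exists_le_sylow
  obtain ⟨x, hx⟩ := MulAction.exists_smul_eq G S P'
  refine ⟨x, hP'.trans ?_⟩
  rw [← hx]
  exact le_rfl

theorem isPGroup_cj {g : G} {P : Subgroup G} (hP : IsPGroup 2 P) : IsPGroup 2 (cj g P) :=
  hP.map _

/-- The Frattini argument for a normal subgroup `E` of `K`. -/
theorem exists_frattini (K E : Subgroup G) (hEK : E ≤ K) (hE : ∀ k ∈ K, cj k E ≤ E)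
    (T : Sylow 2 K) {x : G} (hx : x ∈ K) :
    ∃ e ∈ E, cj (e * x) ((T : Subgroup K).map K.subtype ⊓ E) = (T : Subgroup K).map K.subtype ⊓ E := by
  haveI : Fact (Nat.Prime 2) := ⟨Nat.prime_two⟩
  set T0 := (T : Subgroup K).map K.subtype with hT0
  have hT0p : IsPGroup 2 T0 := T.isPGroup'.map _
  have hmax : ∀ P : Subgroup G, IsPGroup 2 P → P ≤ E → Nat.card P ≤ Nat.card ↥(T0 ⊓ E) := by
    intro P hP hPE
    obtain ⟨y, hy, hle⟩ := exists_cj_le K T hP (hPE.trans hEK)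
    rw [← card_cj y P]
    exact Subgroup.card_le_of_le (le_inf hle ((cj_mono hPE).trans (hE y hy)))
  obtain ⟨P0, hP0⟩ := ((hT0p.to_le (inf_le_left : T0 ⊓ E ≤ T0)).comap_subtype (K := E)).exists_le_sylow
  have hP0p : IsPGroup 2 ((P0 : Subgroup E).map E.subtype) := P0.isPGroup'.map _
  have hsub : T0 ⊓ E ≤ (P0 : Subgroup E).map E.subtype := fun t ht =>
    ⟨⟨t, ht.2⟩, hP0 ht, rfl⟩
  have hP0eq : T0 ⊓ E = (P0 : Subgroup E).map E.subtype :=
    Subgroup.eq_of_le_of_card_ge hsub (hmax _ hP0p (Subgroup.map_subtype_le _))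
  obtain ⟨e, he, hle⟩ := exists_cj_le E P0 (isPGroup_cj (g := x) (hT0p.to_le inf_le_left))
    ((cj_mono inf_le_right).trans (hE x hx))
  refine ⟨e, he, ?_⟩
  rw [← hP0eq, ← cj_mul] at hle
  exact Subgroup.eq_of_le_of_card_ge hle (le_of_eq (card_cj _ _).symm)

/-- A proper subgroup of a `2`-group is properly contained in its normaliser. -/
theorem exists_normalizer_step {S N : Subgroup G} (hS : IsPGroup 2 S) (hN : N ≤ S) (hne : ¬ S ≤ N) :
    ∃ x ∈ S, x ∉ N ∧ ∀ n ∈ N, x * n * x⁻¹ ∈ N := by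
  haveI : Fact (Nat.Prime 2) := ⟨Nat.prime_two⟩
  haveI := hS.isNilpotent
  have hlt : N.subgroupOf S < ⊤ := lt_top_iff_ne_top.2 fun h => hne (Subgroup.subgroupOf_eq_top.1 h)
  obtain ⟨⟨x, hx⟩, hxn, hxN⟩ := SetLike.exists_of_lt (Group.normalizerCondition_of_isNilpotent _ hlt)
  refine ⟨x, hx, fun h => hxN h, fun n hn => ?_⟩
  exact ((Subgroup.mem_normalizer_iff.1 hxn) ⟨n, hN hn⟩).1 hn

end Cfsg.Agent.Lib.SFourGeneral
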