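import Cfsg.Agent.Lib.SFourGeneral.Factor
import Cfsg.Agent.Lib.PLocal.JZPair
import Cfsg.Agent.Lib.PLocal.Thompson
import Cfsg.Agent.S1996
import Mathlib.GroupTheory.Perm.Fin
import Mathlib.Data.Fintype.Perm

/-!
The centre and the elementary Thompson subgroup control fusion exactly in the groups without a section
isomorphic to the symmetric group of degree four.
-/

set_option autoImplicit false
set_option linter.unusedSectionVars false
set_option linter.style.haveILetI false

namespace Cfsg.Agent.Lib.SFourGeneral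

universe u w

theorem involves_trans {H : Type w} [Group H] {Y : Type u} [Group Y] {G : Type u} [Group G]
    (h : Cfsg.Involves H Y) (hY : Cfsg.Involves Y G) : Cfsg.Involves H G := by
  obtain ⟨K, f, hf⟩ := Fusion.exists_surjective_of_involves hY
  obtain ⟨L, g, hg⟩ := Fusion.exists_surjective_of_involves h
  exact Fusion.involves_of_injective (K.subtype.comp (L.comap f).subtype)
    (K.subtype_injective.comp (L.comap f).subtype_injective) (g.comp (f.subgroupComap L))
    (hg.comp (MonoidHom.subgroupComap_surjective_of_surjective f L hf))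

theorem involves_quot {G : Type u} [Group G] (K R : Subgroup G) [hR : (R.subgroupOf K).Normal] :
    Cfsg.Involves (↥K ⧸ R.subgroupOf K) G :=
  ⟨K, R, hR, ⟨MulEquiv.refl _⟩⟩

theorem isCharPFunctor_thompson :
    Cfsg.IsCharPFunctor.{u} 2 (fun Q [Group Q] => Cfsg.thompsonSubgroup 2 Q) := by
  haveI : Fact (Nat.Prime 2) := ⟨Nat.prime_two⟩
  refine ⟨fun Q _ _ hQ hnt => ?_, fun Q R _ _ _ _ φ => PLocal.map_thompsonSubgroup_equiv φ⟩
  exact PLocal.thompsonSubgroup_ne_bot (hQ.exists_card_eq.elim fun k hk => by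
    cases k with
    | zero => exact absurd hk (by have := Finite.one_lt_card (α := Q); omega)
    | succ k => exact hk ▸ dvd_pow_self 2 k.succ_ne_zero)

theorem inducedFunctor_center {G : Type u} [Group G] (P : Subgroup G) :
    Cfsg.inducedFunctor (fun Q [Group Q] => Subgroup.center Q) P = P ⊓ Subgroup.centralizer (P : Set G) := by
  ext x
  constructor
  · rintro ⟨c, hc, rfl⟩
    exact ⟨c.2, fun s hs => congrArg Subtype.val (Subgroup.mem_center_iff.1 hc ⟨s, hs⟩)⟩
  · rintro ⟨hx, hc⟩
    exact ⟨⟨x, hx⟩, Subgroup.mem_center_iff.2 fun s => Subtype.ext (hc s s.2), rfl⟩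

/-- The two functors control strong fusion. -/
theorem control {Y : Type u} [Group Y] [Finite Y] (hfree : ¬ Cfsg.Involves (Equiv.Perm (Fin 4)) Y) :
    Cfsg.FamilyControlsStrongFusionIn 2 ({fun P : Subgroup Y => P ⊓ Subgroup.centralizer (P : Set Y),
      fun P : Subgroup Y => Cfsg.thompsonSubgroupOf 2 P} : Set (Subgroup Y → Subgroup Y)) ⊤ := by
  haveI : Fact (Nat.Prime 2) := ⟨Nat.prime_two⟩
  have h := Cfsg.Agent.S1996.result (G := Y) (fun Q [Group Q] => Subgroup.center Q)
    (fun Q [Group Q] => Cfsg.thompsonSubgroup 2 Q) PLocal.isCharPFunctor_center isCharPFunctor_thompson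
    (fun K R _ hC T x => by
      obtain ⟨c, hc, n, hn, e⟩ := factor (fun h => hfree (involves_trans h (involves_quot K R))) hC T x
      exact ⟨c, Subgroup.centralizer_le_normalizer _ (by rw [inducedFunctor_center]; exact hc), n, hn, e⟩)
  have e : (Cfsg.inducedFunctor (G := Y) (fun Q [Group Q] => Subgroup.center Q)) =
      fun P : Subgroup Y => P ⊓ Subgroup.centralizer (P : Set Y) := funext inducedFunctor_center
  rwa [e] at h

/-- The symmetric group of degree four has no such control. -/
theorem not_control {Y : Type u} [Group Y] [Finite Y] (e : Y ≃* Equiv.Perm (Fin 4)) :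
    ¬ Cfsg.FamilyControlsStrongFusionIn 2 ({fun P : Subgroup Y => P ⊓ Subgroup.centralizer (P : Set Y),
      fun P : Subgroup Y => Cfsg.thompsonSubgroupOf 2 P} : Set (Subgroup Y → Subgroup Y)) ⊤ := by
  classical
  haveI : Fact (Nat.Prime 2) := ⟨Nat.prime_two⟩
  rintro ⟨T, -, hTp, hTi, hctrl⟩
  rw [Subgroup.relIndex_top_right] at hTi
  set z0 : Equiv.Perm (Fin 4) := Equiv.swap 0 2 * Equiv.swap 1 3 with hz0
  set T0 : Subgroup (Equiv.Perm (Fin 4)) := Subgroup.centralizer ({z0} : Set (Equiv.Perm (Fin 4))) with hT0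
  have hmem : ∀ p, p ∈ T0 ↔ p * z0 = z0 * p := fun p => Subgroup.mem_centralizer_singleton_iff
  have hT0card : Nat.card T0 = 8 := by
    rw [Nat.card_congr (Equiv.subtypeEquivRight hmem), Nat.card_eq_fintype_card]
    decide
  have hT0p : IsPGroup 2 T0 := IsPGroup.of_card (n := 3) (by rw [hT0card]; norm_num)
  have hT0i : ¬ 2 ∣ T0.index := by
    have h := T0.card_mul_index
    rw [hT0card, Nat.card_perm, Nat.card_fin] at h
    norm_num [Nat.factorial] at h
    omega
  have hTi' : ¬ 2 ∣ (T.map e.toMonoidHom).index := by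
    rw [show e.toMonoidHom = (e : Y →* Equiv.Perm (Fin 4)) from rfl, Subgroup.index_map_equiv]
    exact hTi
  obtain ⟨q, hq⟩ := MulAction.exists_smul_eq (Equiv.Perm (Fin 4)) ((hTp.map e.toMonoidHom).toSylow hTi')
    (hT0p.toSylow hT0i)
  set f := e.trans (MulAut.conj q) with hf
  have hfT : T.map f.toMonoidHom = T0 := by
    have h := congrArg (fun S : Sylow 2 (Equiv.Perm (Fin 4)) => (S : Subgroup (Equiv.Perm (Fin 4)))) hq
    simp only [Sylow.coe_subgroup_smul, IsPGroup.toSylow_coe] at h
    rw [← h]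
    show T.map f.toMonoidHom = (T.map e.toMonoidHom).map (MulAut.conj q).toMonoidHom
    rw [Subgroup.map_map]
    rfl
  have hT : ∀ y : Y, y ∈ T ↔ f y * z0 = z0 * f y := by
    intro y
    rw [← hmem, ← hfT]
    exact ⟨fun h => ⟨y, h, rfl⟩, fun ⟨y', hy', hye⟩ => f.injective hye ▸ hy'⟩
  set z := f.symm z0 with hz
  have hfz : f z = z0 := f.apply_symm_apply _
  have hzT : z ∈ T := (hT z).2 (by rw [hfz])
  -- the steps stay inside `T`
  have hZ : ∀ x ∈ Subgroup.normalizer ((T ⊓ Subgroup.centralizer (T : Set Y) : Subgroup Y) : Set Y), x ∈ T := by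
    intro x hx
    have hzZ : z ∈ T ⊓ Subgroup.centralizer (T : Set Y) := ⟨hzT, Subgroup.mem_centralizer_iff.2 fun t ht =>
      f.injective (by rw [map_mul, map_mul, hfz]; exact (hT t).1 ht)⟩
    have h1 := (Subgroup.mem_normalizer_iff.1 hx z).1 hzZ
    have h2 : ∀ p : Equiv.Perm (Fin 4), p * z0 = z0 * p → (∀ r : Equiv.Perm (Fin 4), r * z0 = z0 * r → r * p = p * r) →
        p ≠ 1 → p = z0 := by decide
    have h3 : f (x * z * x⁻¹) = z0 := h2 _ ((hT _).1 h1.1) (fun r hr => by
        have h4 := Subgroup.mem_centralizer_iff.1 h1.2 (f.symm r) ((hT _).2 (by rw [f.apply_symm_apply]; exact hr))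
        have h5 := congrArg f h4
        simp only [map_mul, f.apply_symm_apply] at h5
        simpa [map_mul] using h5)
      (fun h => by
        have h4 : z0 = 1 := by
          rw [← hfz]
          simpa [map_mul, map_inv, conj_eq_one_iff] using h
        exact absurd h4 (by decide))
    rw [hT]
    rw [map_mul, map_mul, hfz, map_inv, mul_inv_eq_iff_eq_mul] at h3
    exact h3
  have hJ : ∀ x ∈ Subgroup.normalizer (Cfsg.thompsonSubgroupOf 2 T : Set Y), x ∈ T := by
    intro x hx
    set s : Equiv.Perm (Fin 4) := Equiv.swap 0 2 with hs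
    let B : Subgroup (Equiv.Perm (Fin 4)) :=
      { carrier := {p | p = 1 ∨ p = s ∨ p = Equiv.swap 1 3 ∨ p = z0}
        one_mem' := Or.inl rfl
        mul_mem' := fun {a b} ha hb => by
          rcases ha with rfl | rfl | rfl | rfl <;> rcases hb with rfl | rfl | rfl | rfl <;>
            (simp only [Set.mem_ofPred_eq, hs, hz0]; decide)
        inv_mem' := fun {a} ha => by
          rcases ha with rfl | rfl | rfl | rfl <;> (simp only [Set.mem_ofPred_eq, hs, hz0]; decide) }
    let A : Subgroup Y := B.map f.symm.toMonoidHom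
    have hBT0 : B ≤ T0 := by
      rintro p (rfl | rfl | rfl | rfl) <;> rw [hmem] <;> simp only [hs, hz0] <;> decide
    have hAT : A ≤ T := by
      rintro _ ⟨p, hp, rfl⟩
      rw [hT]
      show f (f.symm p) * z0 = z0 * f (f.symm p)
      rw [f.apply_symm_apply]
      exact (hmem p).1 (hBT0 hp)
    have hBc : Nat.card B = 4 := by
      rw [show Nat.card B = Nat.card {p : Equiv.Perm (Fin 4) // p = 1 ∨ p = s ∨ p = Equiv.swap 1 3 ∨ p = z0} from rfl,
        Nat.card_eq_fintype_card]
      simp only [hs, hz0]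
      decide
    have hAel : Cfsg.IsElementaryAbelian 2 A := by
      refine LocalEven2.isElementaryAbelian_iff.2 ⟨?_, ?_⟩
      · rintro _ ⟨a, ha, rfl⟩ _ ⟨b, hb, rfl⟩
        show f.symm a * f.symm b = f.symm b * f.symm a
        rw [← map_mul, ← map_mul]
        congr 1
        rcases ha with rfl | rfl | rfl | rfl <;> rcases hb with rfl | rfl | rfl | rfl <;> ((try simp only [hs, hz0]) <;> decide)
      · rintro _ ⟨a, ha, rfl⟩
        show f.symm a ^ 2 = 1
        rw [← map_pow]
        rcases ha with rfl | rfl | rfl | rfl <;>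
          (rw [show f.symm = f.symm from rfl]; refine (congrArg f.symm ?_).trans (map_one f.symm); (try simp only [hs, hz0]) <;> decide)
    have hAc : Nat.card A = 4 := by
      rw [← hBc]
      exact Subgroup.card_map_of_injective f.symm.injective
    have hAJ : A ≤ Cfsg.thompsonSubgroupOf 2 T := by
      refine LocalEven2.le_thompsonSubgroupOf ⟨hAT, hAel, fun E hET hEe => ?_⟩
      rw [hAc]
      by_contra hcon
      push Not at hcon
      have hTc : Nat.card T = 8 := by
        rw [← hT0card, ← hfT, Subgroup.card_map_of_injective f.injective]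
      have hd : Nat.card E ∣ 8 := hTc ▸ Subgroup.card_dvd_of_le hET
      have h8 : Nat.card E = 8 := by
        have h9 : Nat.card E ≤ 8 := Nat.le_of_dvd (by norm_num) hd
        interval_cases h : Nat.card E <;> omega
      have hETeq : E = T := Subgroup.eq_of_le_of_card_ge hET (by rw [h8, hTc])
      obtain ⟨hEc, -⟩ := LocalEven2.isElementaryAbelian_iff.1 hEe
      have h1 := hEc (f.symm s) (hETeq ▸ (hT _).2 (by rw [f.apply_symm_apply]; simp only [hs, hz0]; decide))
        (f.symm (Equiv.swap 0 1 * Equiv.swap 2 3))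
        (hETeq ▸ (hT _).2 (by rw [f.apply_symm_apply]; simp only [hz0]; decide))
      rw [← map_mul, ← map_mul] at h1
      exact absurd (f.symm.injective h1) (by simp only [hs]; decide)
    have h1 := (Subgroup.mem_normalizer_iff.1 hx _).1 (hAJ ⟨s, Or.inr (Or.inl rfl), rfl⟩)
    have h2 := (hT _).1 (LocalEven2.thompsonSubgroupOf_le 2 T h1)
    have h3 : ∀ p : Equiv.Perm (Fin 4),
        (p * Equiv.swap 0 2 * p⁻¹) * z0 = z0 * (p * Equiv.swap 0 2 * p⁻¹) → p * z0 = z0 * p := by decide
    rw [hT]
    refine h3 _ ?_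
    have h4 : f (x * f.symm.toMonoidHom s * x⁻¹) = f x * Equiv.swap 0 2 * (f x)⁻¹ := by
      rw [map_mul, map_mul, map_inv]
      show f x * f (f.symm s) * (f x)⁻¹ = _
      rw [f.apply_symm_apply]
    rwa [h4] at h2
  obtain ⟨n, c, hc0, hstep, -, hlast⟩ := hctrl {z} (f.symm (Equiv.swap 1 2)) (Subgroup.mem_top _)
    (Set.singleton_subset_iff.2 hzT) (by
      rw [Set.image_singleton, Set.singleton_subset_iff]
      refine (hT _).2 ?_
      rw [map_mul, map_mul, map_inv, f.apply_symm_apply, hfz]
      simp only [hz0]; decide)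
  have hcT : ∀ i : Fin (n + 1), c i ∈ T := by
    intro i
    induction i using Fin.induction with
    | zero => rw [hc0]; exact one_mem T
    | succ i ih =>
      obtain ⟨W, hW, hx⟩ := hstep i
      have hx' : c i.succ * (c i.castSucc)⁻¹ ∈ T := by
        rcases hW with rfl | rfl
        · exact hZ _ hx.2
        · exact hJ _ hx.2
      simpa using mul_mem hx' ih
  have h1 := congrArg f (hlast z rfl)
  rw [map_mul, map_mul, map_inv, hfz, (hT _).1 (hcT (Fin.last n)), mul_inv_cancel_right, map_mul, map_mul,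
    map_inv, f.apply_symm_apply, hfz] at h1
  exact absurd h1 (by simp only [hz0]; decide)

end Cfsg.Agent.Lib.SFourGeneral
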