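import Mathlib.LinearAlgebra.FiniteDimensional.Lemmas
import Mathlib.LinearAlgebra.Dimension.Finite
import Mathlib.Algebra.Field.ZMod
import Mathlib.Algebra.Algebra.Subalgebra.Basic
import Mathlib.RingTheory.Adjoin.Basic
import Mathlib.Data.Fintype.EquivFin
import Mathlib.Tactic.LinearCombination
import Mathlib.Tactic.Linarith
import Mathlib.Tactic.Ring

/-!
A bound for a module that maps into another one through several homomorphisms, such that every
nonzero submodule is smaller than what it spans there.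
-/

set_option autoImplicit false
set_option linter.unusedSectionVars false
set_option linter.style.longLine false

namespace Cfsg.Agent.Lib.SFourGeneral

universe u v w x

section Monoid

variable {A : Type u} [Monoid A] [Finite A]

/-- Some positive power of an element of a finite monoid is idempotent. -/
theorem exists_pow_idem (a : A) : ∃ n, 0 < n ∧ a ^ n * a ^ n = a ^ n := by
  obtain ⟨i, j, hne, h⟩ := Finite.exists_ne_map_eq_of_infinite (fun n : ℕ => a ^ n)
  wlog hij : i < j generalizing i j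
  · exact this j i hne.symm h.symm (lt_of_le_of_ne (not_lt.1 hij) hne.symm)
  obtain ⟨d, hd, rfl⟩ : ∃ d, 0 < d ∧ j = i + d := ⟨j - i, by omega, by omega⟩
  have hper : ∀ k m, i ≤ m → a ^ (m + d * k) = a ^ m := by
    intro k
    induction k with
    | zero => simp
    | succ k ih =>
      intro m hm
      obtain ⟨r, rfl⟩ := Nat.exists_eq_add_of_le hm
      rw [show i + r + d * (k + 1) = (i + d) + (r + d * k) by ring, pow_add, ← (show a ^ i = a ^ (i + d) from h),
        ← pow_add, show i + (r + d * k) = i + r + d * k by ring]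
      exact ih _ hm
  refine ⟨d * (i + 1), Nat.mul_pos hd (Nat.succ_pos _), ?_⟩
  rw [← pow_add]
  exact hper (i + 1) _ (le_trans (Nat.le_succ i) (Nat.le_mul_of_pos_left _ hd))

end Monoid

section Algebra

instance (priority := 50) finite_submodule_of_finite {R : Type*} [Semiring R] {M : Type*} [AddCommMonoid M] [Module R M]
    [Finite M] : Finite (Submodule R M) :=
  Finite.of_injective _ SetLike.coe_injective

variable {F : Type*} [Field F] {A : Type u} [Ring A] [Algebra F A] [Finite A]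
variable {M : Type v} [AddCommGroup M] [Module F M] [Finite M]

/-- `U / M'` is a simple section for the action `φ`. -/
structure SimpleSec (φ : A →ₐ[F] Module.End F M) (M' U : Submodule F M) : Prop where
  lt : M' < U
  inv_top : ∀ a, ∀ u ∈ U, φ a u ∈ U
  inv_bot : ∀ a, ∀ u ∈ M', φ a u ∈ M'
  simple : ∀ N : Submodule F M, (∀ a, ∀ u ∈ N, φ a u ∈ N) → M' ≤ N → N ≤ U → N = M' ∨ N = U

theorem pow_fix_mod {φ : A →ₐ[F] Module.End F M} {M' : Submodule F M} (hinv : ∀ a, ∀ u ∈ M', φ a u ∈ M')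
    {b : A} {w : M} (hb : φ b w - w ∈ M') : ∀ n : ℕ, φ (b ^ n) w - w ∈ M' := by
  intro n
  induction n with
  | zero => simp
  | succ n ih =>
    have h : φ (b ^ (n + 1)) w - w = φ b (φ (b ^ n) w - w) + (φ b w - w) := by
      rw [pow_succ', map_mul, Module.End.mul_apply, map_sub]; abel
    rw [h]
    exact add_mem (hinv b _ ih) hb

/-- A two-sided ideal acting nontrivially on a simple section contains an element acting as the identity. -/
theorem exists_unit_of_ideal {φ : A →ₐ[F] Module.End F M} {M' U : Submodule F M} (hs : SimpleSec φ M' U)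
    (J : Submodule F A) (hl : ∀ a, ∀ j ∈ J, a * j ∈ J) (hr : ∀ a, ∀ j ∈ J, j * a ∈ J)
    (hne : ∃ j ∈ J, ∃ u ∈ U, φ j u ∉ M') :
    ∃ c ∈ J, ∀ u ∈ U, φ c u - u ∈ M' := by
  classical
  have htrans : ∀ w ∈ U, w ∉ M' → ∃ j ∈ J, φ j w - w ∈ M' := by
    intro w hw hwM
    let Jw : Submodule F M := J.map ((LinearMap.applyₗ w).comp φ.toLinearMap)
    have hJw : ∀ j ∈ J, φ j w ∈ Jw := fun j hj => ⟨j, hj, rfl⟩
    have hinv : ∀ a, ∀ u ∈ Jw ⊔ M', φ a u ∈ Jw ⊔ M' := by
      intro a u hu
      obtain ⟨p, hp, q, hq, rfl⟩ := Submodule.mem_sup.1 hu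
      obtain ⟨j, hj, rfl⟩ := hp
      rw [map_add]
      refine add_mem (Submodule.mem_sup_left ⟨a * j, hl a j hj, ?_⟩) (Submodule.mem_sup_right (hs.inv_bot a q hq))
      show φ (a * j) w = φ a (φ j w)
      rw [map_mul]; rfl
    rcases hs.simple _ hinv le_sup_right (sup_le (by
      rintro _ ⟨j, hj, rfl⟩; exact hs.inv_top j w hw) hs.lt.le) with h | h
    · exfalso
      let N : Submodule F M :=
        { carrier := {u | u ∈ U ∧ ∀ j ∈ J, φ j u ∈ M'}
          add_mem' := fun {a b} ha hb => ⟨add_mem ha.1 hb.1, fun j hj => by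
            rw [map_add]; exact add_mem (ha.2 j hj) (hb.2 j hj)⟩
          zero_mem' := ⟨zero_mem _, fun j _ => by rw [map_zero]; exact zero_mem _⟩
          smul_mem' := fun c u hu => ⟨U.smul_mem c hu.1, fun j hj => by
            rw [map_smul]; exact M'.smul_mem c (hu.2 j hj)⟩ }
      have hNinv : ∀ a, ∀ u ∈ N, φ a u ∈ N := fun a u hu => ⟨hs.inv_top a u hu.1, fun j hj => by
        have := hu.2 (j * a) (hr a j hj)
        rwa [map_mul, Module.End.mul_apply] at this⟩
      rcases hs.simple N hNinv (fun u hu => ⟨hs.lt.le hu, fun j _ => hs.inv_bot j u hu⟩) (fun u hu => hu.1) with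
        h' | h'
      · refine hwM (h' ▸ (⟨hw, fun j hj => h ▸ Submodule.mem_sup_left (hJw j hj)⟩ : w ∈ N))
      · obtain ⟨j, hj, u, hu, hju⟩ := hne
        exact hju ((h'.symm ▸ hu : u ∈ N).2 j hj)
    · obtain ⟨p, hp, q, hq, hpq⟩ := Submodule.mem_sup.1 (h.symm ▸ hw : w ∈ Jw ⊔ M')
      obtain ⟨j, hj, rfl⟩ := hp
      refine ⟨j, hj, ?_⟩
      rw [show φ j w - w = -q by rw [sub_eq_iff_eq_add]; conv_rhs => rw [← hpq]
                                 show φ j w = -q + (φ j w + q); abel]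
      exact neg_mem hq
  let fix : A → Set M := fun e => {u | u ∈ U ∧ φ e u - u ∈ M'}
  haveI : Nonempty {e : A // e ∈ J ∧ e * e = e} := ⟨⟨0, zero_mem J, mul_zero 0⟩⟩
  obtain ⟨⟨e, heJ, hee⟩, hmax⟩ := Finite.exists_max (fun e : {e : A // e ∈ J ∧ e * e = e} => Nat.card (fix e.1))
  refine ⟨e, heJ, ?_⟩
  by_contra hcon
  push Not at hcon
  obtain ⟨v, hv, hvM⟩ := hcon
  obtain ⟨w, hwdef⟩ : ∃ w, w = v - φ e v := ⟨_, rfl⟩
  have hwU : w ∈ U := hwdef ▸ sub_mem hv (hs.inv_top e v hv)
  have hwM : w ∉ M' := fun h => hvM (by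
    have := neg_mem h
    rwa [hwdef, neg_sub] at this)
  have hew : φ e w = 0 := by
    rw [hwdef, map_sub, ← Module.End.mul_apply, ← map_mul, hee, sub_self]
  obtain ⟨j, hj, hjw⟩ := htrans w hwU hwM
  set b := (1 - e) * j * (1 - e) with hb
  have hbJ : b ∈ J := hr _ _ (hl _ _ hj)
  have he1 : (1 - e) * e = 0 := by rw [sub_mul, one_mul, hee, sub_self]
  have he2 : e * (1 - e) = 0 := by rw [mul_sub, mul_one, hee, sub_self]
  have hbe : b * e = 0 := by rw [hb, mul_assoc, he1, mul_zero]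
  have heb : e * b = 0 := by rw [hb, ← mul_assoc, ← mul_assoc, he2, zero_mul, zero_mul]
  have hbw : φ b w - w ∈ M' := by
    have h1 : φ b w = φ j w - φ e (φ j w) := by
      have h3 : φ (1 - e) w = w := by
        rw [map_sub, map_one, LinearMap.sub_apply, Module.End.one_apply, hew, sub_zero]
      rw [hb, map_mul, map_mul, Module.End.mul_apply, Module.End.mul_apply, h3, map_sub, map_one,
        LinearMap.sub_apply, Module.End.one_apply]
    have h2 : φ b w - w = (φ j w - w) - φ e (φ j w - w) := by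
      rw [h1, map_sub, hew, sub_zero]; abel
    rw [h2]
    exact sub_mem hjw (hs.inv_bot e _ hjw)
  obtain ⟨n, hn, hidem⟩ := exists_pow_idem b
  set f := b ^ n with hf
  obtain ⟨n', rfl⟩ := Nat.exists_eq_succ_of_ne_zero hn.ne'
  have hfJ : f ∈ J := by rw [hf, pow_succ]; exact hl _ _ hbJ
  have hef : e * f = 0 := by rw [hf, pow_succ', ← mul_assoc, heb, zero_mul]
  have hfe : f * e = 0 := by rw [hf, pow_succ, mul_assoc, hbe, mul_zero]
  have hfw : φ f w - w ∈ M' := pow_fix_mod hs.inv_bot hbw _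
  have hidem' : (e + f) * (e + f) = e + f := by
    rw [mul_add, add_mul, add_mul, hee, hfe, hef, hidem]; abel
  have hlt : fix e ⊂ fix (e + f) := by
    refine ⟨fun u hu => ⟨hu.1, ?_⟩, fun hsub => ?_⟩
    · have h1 : φ f u ∈ M' := by
        have : φ f u = φ (f * e) u - φ f (φ e u - u) := by
          rw [map_mul, Module.End.mul_apply, map_sub]; abel
        rw [this, hfe, map_zero, LinearMap.zero_apply, zero_sub]
        exact neg_mem (hs.inv_bot f _ hu.2)
      rw [map_add, LinearMap.add_apply, show φ e u + φ f u - u = (φ e u - u) + φ f u by abel]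
      exact add_mem hu.2 h1
    · have hwin : w ∈ fix (e + f) := ⟨hwU, by rw [map_add, LinearMap.add_apply, hew, zero_add]; exact hfw⟩
      have := (hsub hwin).2
      rw [hew, zero_sub, neg_mem_iff] at this
      exact hwM this
  exact absurd (hmax ⟨e + f, add_mem heJ hfJ, hidem'⟩)
    (not_le.2 (Set.ncard_lt_ncard hlt (Set.toFinite _)))

/-- The annihilator of a section. -/
def annSec (φ : A →ₐ[F] Module.End F M) (M' U : Submodule F M) : Submodule F A where
  carrier := {a | ∀ u ∈ U, φ a u ∈ M'}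
  add_mem' := fun {a b} ha hb u hu => by rw [map_add]; exact add_mem (ha u hu) (hb u hu)
  zero_mem' := fun u _ => by rw [map_zero]; exact zero_mem _
  smul_mem' := fun c a ha u hu => by rw [map_smul]; exact M'.smul_mem c (ha u hu)

variable {D : Type w} [AddCommGroup D] [Module F D] [Finite D]

/-- A left ideal minimal over the annihilator of a simple section has the dimension of that section above it. -/
theorem finrank_left_ideal {φ : A →ₐ[F] Module.End F M} {M' U : Submodule F M} (hs : SimpleSec φ M' U)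
    (L : Submodule F A) (hL : ∀ a, ∀ l ∈ L, a * l ∈ L) (hlt : annSec φ M' U < L)
    (hmin : ∀ L' : Submodule F A, (∀ a, ∀ l ∈ L', a * l ∈ L') → annSec φ M' U < L' → L' ≤ L → L' = L) :
    Module.finrank F L + Module.finrank F M' = Module.finrank F U + Module.finrank F (annSec φ M' U) := by
  classical
  obtain ⟨l0, hl0, hl0n⟩ := SetLike.exists_of_lt hlt
  simp only [annSec, Submodule.mem_mk, AddSubmonoid.mem_mk, AddSubsemigroup.mem_mk, Set.mem_ofPred_eq, not_forall] at hl0n
  obtain ⟨m, hm, hlm⟩ := hl0n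
  let ev : A →ₗ[F] M := (LinearMap.applyₗ m).comp φ.toLinearMap
  let T : ↥L →ₗ[F] M ⧸ M' := (M'.mkQ.comp ev).comp L.subtype
  have hker : (LinearMap.ker T).map L.subtype = annSec φ M' U := by
    have hin : annSec φ M' U ≤ (LinearMap.ker T).map L.subtype := fun a ha =>
      ⟨⟨a, hlt.le ha⟩, by simpa [T, ev] using ha m hm, rfl⟩
    have hinv : ∀ a, ∀ l ∈ (LinearMap.ker T).map L.subtype, a * l ∈ (LinearMap.ker T).map L.subtype := by
      rintro a _ ⟨⟨l, hl⟩, hlk, rfl⟩
      refine ⟨⟨a * l, hL a l hl⟩, ?_, rfl⟩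
      have hlk' : φ l m ∈ M' := by simpa [T, ev] using hlk
      simpa [T, ev, map_mul] using hs.inv_bot a _ hlk'
    rcases hin.lt_or_eq with h | h
    · exfalso
      have heq := hmin _ hinv h (by rintro _ ⟨l, -, rfl⟩; exact l.2)
      obtain ⟨⟨l, hl⟩, hlk, hll⟩ := (heq.symm ▸ hl0 : l0 ∈ (LinearMap.ker T).map L.subtype)
      subst hll
      exact hlm (by simpa [T, ev] using hlk)
    · exact h.symm
  have hran : LinearMap.range T = U.map M'.mkQ := by
    have hR : L.map ev ⊔ M' = U := by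
      have hinv : ∀ a, ∀ u ∈ L.map ev ⊔ M', φ a u ∈ L.map ev ⊔ M' := by
        intro a u hu
        obtain ⟨_, ⟨l, hl, rfl⟩, q, hq, rfl⟩ := Submodule.mem_sup.1 hu
        rw [map_add]
        refine add_mem (Submodule.mem_sup_left ⟨a * l, hL a l hl, ?_⟩) (Submodule.mem_sup_right (hs.inv_bot a q hq))
        simp [ev, map_mul]
      rcases hs.simple _ hinv le_sup_right (sup_le (by
        rintro _ ⟨l, hl, rfl⟩; exact hs.inv_top l m hm) hs.lt.le) with h | h
      · exact absurd (h ▸ Submodule.mem_sup_left ⟨l0, hl0, rfl⟩ : φ l0 m ∈ M') hlm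
      · exact h
    rw [← hR, Submodule.map_sup, Submodule.mkQ_map_self, sup_bot_eq,
      ← Submodule.map_comp, LinearMap.range_comp, Submodule.range_subtype]
  have h1 := LinearMap.finrank_range_add_finrank_ker T
  rw [hran, ← Submodule.finrank_map_subtype_eq L (LinearMap.ker T), hker] at h1
  let S : ↥U →ₗ[F] M ⧸ M' := M'.mkQ.comp U.subtype
  have h2 := LinearMap.finrank_range_add_finrank_ker S
  have h3 : LinearMap.range S = U.map M'.mkQ := by
    rw [LinearMap.range_comp, Submodule.range_subtype]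
  have h4 : (LinearMap.ker S).map U.subtype = M' := by
    rw [LinearMap.ker_comp, Submodule.ker_mkQ, Submodule.map_comap_subtype, inf_eq_right.2 hs.lt.le]
  rw [h3, ← Submodule.finrank_map_subtype_eq U (LinearMap.ker S), h4] at h2
  omega

/-- An idempotent that is the identity on a simple submodule and minimal as such cuts every module to a
multiple of the dimension of that submodule. -/
theorem dvd_finrank_map {ψ : A →ₐ[F] Module.End F D} {Z : Submodule F D} (hZ : SimpleSec ψ ⊥ Z)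
    (φ : A →ₐ[F] Module.End F M) {e : A} (hee : e * e = e) (heZ : ∀ z ∈ Z, ψ e z = z)
    (hmin : ∀ f : A, f * f = f → (∀ z ∈ Z, ψ f z = z) → e * f = f → f * e = f → f = e) :
    ∀ n, ∀ U : Submodule F M, Module.finrank F U = n → (∀ a, ∀ u ∈ U, φ a u ∈ U) →
      Module.finrank F Z ∣ Module.finrank F (U.map (φ e)) := by
  intro n
  induction n using Nat.strong_induction_on with
  | _ n ih =>
    intro U hn hU
    classical
    rcases eq_or_ne U ⊥ with rfl | hne
    · rw [Submodule.map_bot, finrank_bot]; exact dvd_zero _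
    haveI : Nonempty {N : Submodule F M // (∀ a, ∀ u ∈ N, φ a u ∈ N) ∧ N < U} :=
      ⟨⟨⊥, fun a u hu => by rw [Submodule.mem_bot] at hu; rw [hu, map_zero]; exact zero_mem _,
        bot_lt_iff_ne_bot.2 hne⟩⟩
    obtain ⟨⟨M', hM'i, hM'lt⟩, hM'max⟩ := Finite.exists_max (α := {N : Submodule F M // (∀ a, ∀ u ∈ N, φ a u ∈ N) ∧ N < U})
      (fun N => Module.finrank F N.1)
    have hs : SimpleSec φ M' U := by
      refine ⟨hM'lt, hU, hM'i, fun N hN hMN hNU => ?_⟩
      rcases hNU.lt_or_eq with h | h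
      · exact Or.inl (Submodule.eq_of_le_of_finrank_le hMN (hM'max ⟨N, hN, h⟩)).symm
      · exact Or.inr h
    have hdiv := ih _ (hn ▸ Submodule.finrank_lt_finrank_of_lt hM'lt) M' rfl hM'i
    by_cases hb : ∃ b : A, (∀ z ∈ Z, ψ b z = z) ∧ ∀ u ∈ U, φ b u ∈ M'
    · obtain ⟨b, hbZ, hbU⟩ := hb
      obtain ⟨k, hk, hidem⟩ := exists_pow_idem (e * b * e)
      obtain ⟨k', rfl⟩ := Nat.exists_eq_succ_of_ne_zero hk.ne'
      have hc : ∀ z ∈ Z, ψ (e * b * e) z = z := fun z hz => by
        simp only [map_mul, Module.End.mul_apply]; rw [heZ z hz, hbZ z hz, heZ z hz]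
      have hcp : ∀ m : ℕ, ∀ z ∈ Z, ψ ((e * b * e) ^ m) z = z := by
        intro m
        induction m with
        | zero => simp
        | succ m ihm => intro z hz; rw [pow_succ, map_mul, Module.End.mul_apply, hc z hz, ihm z hz]
      have hef : e * (e * b * e) ^ (k' + 1) = (e * b * e) ^ (k' + 1) := by
        rw [pow_succ', ← mul_assoc, ← mul_assoc, ← mul_assoc, hee]
      have hfe : (e * b * e) ^ (k' + 1) * e = (e * b * e) ^ (k' + 1) := by
        rw [pow_succ, mul_assoc, mul_assoc (e * b) e e, hee]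
      have heq := hmin _ hidem (hcp _) hef hfe
      have hsub : ∀ u ∈ U, φ e u ∈ M' := by
        intro u hu
        rw [← heq, pow_succ', map_mul, Module.End.mul_apply, map_mul, map_mul, Module.End.mul_apply,
          Module.End.mul_apply]
        exact hM'i e _ (hbU _ (hU e _ (hU _ u hu)))
      rw [show U.map (φ e) = M'.map (φ e) from le_antisymm (by
        rintro _ ⟨u, hu, rfl⟩
        exact ⟨φ e u, hsub u hu, by rw [← Module.End.mul_apply, ← map_mul, hee]⟩) (Submodule.map_mono hM'lt.le)]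
      exact hdiv
    · push Not at hb
      have hl2 : ∀ a, ∀ j ∈ annSec φ M' U, a * j ∈ annSec φ M' U := fun a j hj u hu => by
        rw [map_mul]; exact hM'i a _ (hj u hu)
      have hr2 : ∀ a, ∀ j ∈ annSec φ M' U, j * a ∈ annSec φ M' U := fun a j hj u hu => by
        rw [map_mul]; exact hj _ (hU a u hu)
      have hl1 : ∀ a, ∀ j ∈ annSec ψ ⊥ Z, a * j ∈ annSec ψ ⊥ Z := fun a j hj u hu => by
        rw [map_mul]; exact hZ.inv_bot a _ (hj u hu)
      have hr1 : ∀ a, ∀ j ∈ annSec ψ ⊥ Z, j * a ∈ annSec ψ ⊥ Z := fun a j hj u hu => by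
        rw [map_mul]; exact hj _ (hZ.inv_top a u hu)
      have h21 : annSec φ M' U ≤ annSec ψ ⊥ Z := by
        intro a ha
        by_contra hna
        simp only [annSec, Submodule.mem_mk, AddSubmonoid.mem_mk, AddSubsemigroup.mem_mk, Set.mem_ofPred_eq,
          not_forall] at hna
        obtain ⟨z, hz, hza⟩ := hna
        obtain ⟨c, hc, hcZ⟩ := exists_unit_of_ideal hZ _ hl2 hr2 ⟨a, ha, z, hz, hza⟩
        obtain ⟨u, hu, huM⟩ := hb c (fun z hz => sub_eq_zero.1 (by simpa using hcZ z hz))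
        exact huM (hc u hu)
      have h12 : annSec ψ ⊥ Z ≤ annSec φ M' U := by
        intro a ha
        by_contra hna
        simp only [annSec, Submodule.mem_mk, AddSubmonoid.mem_mk, AddSubsemigroup.mem_mk, Set.mem_ofPred_eq,
          not_forall] at hna
        obtain ⟨u, hu, hua⟩ := hna
        obtain ⟨c, hc, hcU⟩ := exists_unit_of_ideal hs _ hl1 hr1 ⟨a, ha, u, hu, hua⟩
        obtain ⟨u', hu', huM⟩ := hb (1 - c) (fun z hz => by
          have : ψ c z = 0 := by simpa using hc z hz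
          simp [this])
        exact huM (by
          have := neg_mem (hcU u' hu')
          simpa [neg_sub] using this)
      have hann : annSec φ M' U = annSec ψ ⊥ Z := le_antisymm h21 h12
      have hone : annSec φ M' U < ⊤ := lt_top_iff_ne_top.2 fun h => by
        obtain ⟨u, hu, huM⟩ := SetLike.exists_of_lt hM'lt
        exact huM (by simpa using (h ▸ Submodule.mem_top : (1 : A) ∈ annSec φ M' U) u hu)
      haveI : Nonempty {L : Submodule F A // (∀ a, ∀ l ∈ L, a * l ∈ L) ∧ annSec φ M' U < L} :=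
        ⟨⟨⊤, fun a l _ => Submodule.mem_top, hone⟩⟩
      obtain ⟨⟨L, hL, hLlt⟩, hLmin⟩ := Finite.exists_min
        (α := {L : Submodule F A // (∀ a, ∀ l ∈ L, a * l ∈ L) ∧ annSec φ M' U < L})
        
        (fun L => Module.finrank F L.1)
      have hmin' : ∀ L' : Submodule F A, (∀ a, ∀ l ∈ L', a * l ∈ L') → annSec φ M' U < L' → L' ≤ L → L' = L :=
        fun L' h1 h2 h3 => Submodule.eq_of_le_of_finrank_le h3 (hLmin ⟨L', h1, h2⟩)
      have e1 := finrank_left_ideal hs L hL hLlt hmin'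
      have e2 := finrank_left_ideal hZ L hL (hann ▸ hLlt) (fun L' h1 h2 h3 => hmin' L' h1 (hann ▸ h2) h3)
      rw [← hann] at e2
      simp only [finrank_bot, add_zero] at e2
      have he1 : ∀ u ∈ U, u - φ e u ∈ M' := by
        intro u hu
        have := h12 (show (1 - e : A) ∈ annSec ψ ⊥ Z from fun z hz => by simp [heZ z hz]) u hu
        simpa using this
      let T : ↥U →ₗ[F] M := (φ e).comp U.subtype
      let T' : ↥M' →ₗ[F] M := (φ e).comp M'.subtype
      have r1 := LinearMap.finrank_range_add_finrank_ker T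
      have r2 := LinearMap.finrank_range_add_finrank_ker T'
      have g1 : LinearMap.range T = U.map (φ e) := by rw [LinearMap.range_comp, Submodule.range_subtype]
      have g2 : LinearMap.range T' = M'.map (φ e) := by rw [LinearMap.range_comp, Submodule.range_subtype]
      have g3 : (LinearMap.ker T).map U.subtype = (LinearMap.ker T').map M'.subtype := by
        rw [LinearMap.ker_comp, LinearMap.ker_comp, Submodule.map_comap_subtype, Submodule.map_comap_subtype]
        refine le_antisymm (fun u hu => ?_) (inf_le_inf_right _ hM'lt.le)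
        obtain ⟨hu1, hu2⟩ := hu
        refine ⟨?_, hu2⟩
        have hu2' : φ e u = 0 := hu2
        have := he1 u hu1
        rwa [hu2', sub_zero] at this
      rw [g1, ← Submodule.finrank_map_subtype_eq U (LinearMap.ker T)] at r1
      rw [g2, ← Submodule.finrank_map_subtype_eq M' (LinearMap.ker T')] at r2
      rw [g3] at r1
      have : Module.finrank F (U.map (φ e)) = Module.finrank F (M'.map (φ e)) + Module.finrank F Z := by omega
      rw [this]
      exact Nat.dvd_add hdiv dvd_rfl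

end Algebra

section Main

variable {F : Type*} [Field F] [Finite F] {G : Type u} [Group G]
variable {K : Type v} [AddCommGroup K] [Module F K] [Finite K]
variable {D : Type w} [AddCommGroup D] [Module F D] [Finite D] {ι : Type x}

/-- The span of the images of a subspace. -/
def spn (π : ι → K →ₗ[F] D) (W : Submodule F K) : Submodule F D := ⨆ i, W.map (π i)

theorem spn_sup (π : ι → K →ₗ[F] D) (W W' : Submodule F K) : spn π (W ⊔ W') = spn π W ⊔ spn π W' := by
  simp only [spn, Submodule.map_sup, iSup_sup_eq]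

theorem spn_mono (π : ι → K →ₗ[F] D) {W W' : Submodule F K} (h : W ≤ W') : spn π W ≤ spn π W' :=
  iSup_mono fun i => Submodule.map_mono h

theorem spn_map (π : ι → K →ₗ[F] D) (f : K →ₗ[F] K) (g : D →ₗ[F] D) (h : ∀ i, (π i).comp f = g.comp (π i))
    (W : Submodule F K) : spn π (W.map f) = (spn π W).map g := by
  simp only [spn, Submodule.map_iSup, ← Submodule.map_comp, h]

/-- The bound. -/
theorem exists_simple_le (ρK : G →* Module.End F K) (ρD : G →* Module.End F D)
    (π : ι → K →ₗ[F] D) (heq : ∀ g i k, π i (ρK g k) = ρD g (π i k))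
    (D1 : Submodule F D) (hD1 : ∀ g, ∀ d ∈ D1, ρD g d ∈ D1) (hne : D1 ≠ ⊥) (hπ : ∀ i k, π i k ∈ D1)
    (hpos : ∀ W : Submodule F K, (∀ g, ∀ k ∈ W, ρK g k ∈ W) → W ≠ ⊥ →
      Module.finrank F W < Module.finrank F (spn π W)) :
    ∃ Z : Submodule F D, Z ≤ D1 ∧ Z ≠ ⊥ ∧ (∀ g, ∀ d ∈ Z, ρD g d ∈ Z) ∧
      (∀ N : Submodule F D, (∀ g, ∀ d ∈ N, ρD g d ∈ N) → N ≤ Z → N = ⊥ ∨ N = Z) ∧
      Module.finrank F K + Module.finrank F Z ≤ Module.finrank F D1 := by
  classical
  set D2 : Submodule F D := if spn π ⊤ = ⊥ then D1 else spn π ⊤ with hD2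
  have hsp1 : spn π ⊤ ≤ D1 := iSup_le fun i => by rintro _ ⟨k, -, rfl⟩; exact hπ i k
  have hD2le : D2 ≤ D1 := by rw [hD2]; split_ifs; exacts [le_rfl, hsp1]
  have hD2ne : D2 ≠ ⊥ := by rw [hD2]; split_ifs with h; exacts [hne, h]
  have hD2inv : ∀ g, ∀ d ∈ D2, ρD g d ∈ D2 := by
    intro g d hd
    rw [hD2] at hd ⊢
    split_ifs at hd ⊢ with h
    · exact hD1 g d hd
    · have h1 : (spn π ⊤).map (ρD g) = spn π ((⊤ : Submodule F K).map (ρK g)) :=
        (spn_map π (ρK g) (ρD g) (fun i => LinearMap.ext fun k => heq g i k) ⊤).symm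
      exact spn_mono π le_top (h1 ▸ Submodule.mem_map_of_mem hd)
  haveI : Nonempty {N : Submodule F D // N ≠ ⊥ ∧ N ≤ D2 ∧ ∀ g, ∀ d ∈ N, ρD g d ∈ N} :=
    ⟨⟨D2, hD2ne, le_rfl, hD2inv⟩⟩
  obtain ⟨⟨Z, hZne, hZle, hZinv⟩, hZmin⟩ := Finite.exists_min
    (α := {N : Submodule F D // N ≠ ⊥ ∧ N ≤ D2 ∧ ∀ g, ∀ d ∈ N, ρD g d ∈ N})
     (fun N => Module.finrank F N.1)
  have hZs : ∀ N : Submodule F D, (∀ g, ∀ d ∈ N, ρD g d ∈ N) → N ≤ Z → N = ⊥ ∨ N = Z := fun N hN hle => by
    by_cases h : N = ⊥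
    · exact Or.inl h
    · exact Or.inr (Submodule.eq_of_le_of_finrank_le hle (hZmin ⟨N, h, hle.trans hZle, hN⟩))
  refine ⟨Z, hZle.trans hD2le, hZne, hZinv, hZs, ?_⟩
  by_cases hsp0 : spn π ⊤ = ⊥
  · have hK : (⊤ : Submodule F K) = ⊥ := by
      by_contra h
      have := hpos ⊤ (fun _ _ _ => Submodule.mem_top) h
      rw [hsp0, finrank_bot] at this
      exact absurd this (Nat.not_lt_zero _)
    have : Module.finrank F K = 0 := by rw [← finrank_top F K, hK, finrank_bot]
    rw [this, zero_add]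
    exact Submodule.finrank_mono (hZle.trans hD2le)
  have hZsp : Z ≤ spn π ⊤ := by rw [hD2, if_neg hsp0] at hZle; exact hZle
  refine le_trans ?_ (Submodule.finrank_mono hsp1)
  by_contra hlt
  push Not at hlt
  set z := Module.finrank F Z with hz
  set N : ℤ := (Module.finrank F D : ℤ) + 1 with hN
  let Φ : Submodule F K → ℤ := fun W =>
    (N + 1) * ((Module.finrank F ↥(spn π W ⊔ Z) : ℤ) - z) - N * Module.finrank F W
  obtain ⟨U0, hU0⟩ := Finite.exists_min Φ
  haveI : Nonempty {W : Submodule F K // Φ W ≤ Φ U0} :=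
    ⟨⟨U0, le_rfl⟩⟩
  obtain ⟨⟨U, hUmin⟩, hUmax⟩ := Finite.exists_max (α := {W : Submodule F K // Φ W ≤ Φ U0})
     (fun W => Module.finrank F W.1)
  have hmin : ∀ W, Φ U ≤ Φ W := fun W => hUmin.trans (hU0 W)
  have hbij : ∀ g, Function.Injective (ρK g) ∧ Function.Injective (ρD g) := fun g =>
    ⟨fun a b h => by
      have := congrArg (ρK g⁻¹) h
      rwa [← Module.End.mul_apply, ← Module.End.mul_apply, ← map_mul, inv_mul_cancel, map_one] at this,
    fun a b h => by
      have := congrArg (ρD g⁻¹) h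
      rwa [← Module.End.mul_apply, ← Module.End.mul_apply, ← map_mul, inv_mul_cancel, map_one] at this⟩
  have hZmap : ∀ g, Z.map (ρD g) = Z := fun g => Submodule.eq_of_le_of_finrank_le
    (by rintro _ ⟨d, hd, rfl⟩; exact hZinv g d hd)
    (by rw [(Submodule.equivMapOfInjective _ (hbij g).2 Z).finrank_eq])
  have hΦmap : ∀ g, ∀ W, Φ (W.map (ρK g)) = Φ W := by
    intro g W
    have e1 : spn π (W.map (ρK g)) ⊔ Z = (spn π W ⊔ Z).map (ρD g) := by
      rw [spn_map π (ρK g) (ρD g) (fun i => LinearMap.ext fun k => heq g i k), Submodule.map_sup, hZmap]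
    show (N + 1) * _ - _ = (N + 1) * _ - _
    rw [e1, ← (Submodule.equivMapOfInjective _ (hbij g).2 _).finrank_eq,
      ← (Submodule.equivMapOfInjective _ (hbij g).1 _).finrank_eq]
  have hN0 : (0 : ℤ) ≤ N + 1 := by omega
  have hsub : ∀ W W' : Submodule F K, Φ (W ⊔ W') + Φ (W ⊓ W') ≤ Φ W + Φ W' := by
    intro W W'
    have h1 := Submodule.finrank_sup_add_finrank_inf_eq W W'
    have h2 := Submodule.finrank_sup_add_finrank_inf_eq (spn π W ⊔ Z) (spn π W' ⊔ Z)
    have h3 : spn π (W ⊔ W') ⊔ Z = (spn π W ⊔ Z) ⊔ (spn π W' ⊔ Z) := by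
      rw [spn_sup, sup_sup_distrib_right]
    have h4 : Module.finrank F ↥(spn π (W ⊓ W') ⊔ Z) ≤
        Module.finrank F ↥((spn π W ⊔ Z) ⊓ (spn π W' ⊔ Z)) :=
      Submodule.finrank_mono (le_inf (sup_le_sup_right (spn_mono π inf_le_left) Z)
        (sup_le_sup_right (spn_mono π inf_le_right) Z))
    have h1' : (Module.finrank F ↥(W ⊔ W') : ℤ) + Module.finrank F ↥(W ⊓ W') =
        Module.finrank F W + Module.finrank F W' := by exact_mod_cast h1
    have h5 : (Module.finrank F ↥(spn π (W ⊔ W') ⊔ Z) : ℤ) + Module.finrank F ↥(spn π (W ⊓ W') ⊔ Z) ≤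
        Module.finrank F ↥(spn π W ⊔ Z) + Module.finrank F ↥(spn π W' ⊔ Z) := by
      rw [h3]; omega
    have h6 := mul_le_mul_of_nonneg_left h5 hN0
    show (N + 1) * _ - _ + ((N + 1) * _ - _) ≤ (N + 1) * _ - _ + ((N + 1) * _ - _)
    linear_combination h6 - N * h1'
  have hUinv : ∀ g, ∀ k ∈ U, ρK g k ∈ U := by
    intro g k hk
    have h1 := hsub U (U.map (ρK g))
    rw [hΦmap] at h1
    have h2 : Φ (U ⊔ U.map (ρK g)) ≤ Φ U0 := by linarith [hmin (U ⊓ U.map (ρK g))]
    have h3 := Submodule.eq_of_le_of_finrank_le (le_sup_left : U ≤ U ⊔ U.map (ρK g)) (hUmax ⟨_, h2⟩)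
    exact h3.symm ▸ Submodule.mem_sup_right (Submodule.mem_map_of_mem hk)
  have hneg : Φ U < 0 := by
    refine lt_of_le_of_lt (hmin ⊤) ?_
    show (N + 1) * _ - _ < 0
    rw [sup_eq_left.2 hZsp, finrank_top]
    have h1 : (Module.finrank F ↥(spn π ⊤) : ℤ) < Module.finrank F K + z := by exact_mod_cast hlt
    have h2 : (Module.finrank F ↥(spn π ⊤) : ℤ) ≤ Module.finrank F D := by
      exact_mod_cast Submodule.finrank_le _
    have h3 : (0 : ℤ) ≤ z := Int.natCast_nonneg _
    nlinarith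
  have hU0ne : U ≠ ⊥ := by
    intro h
    apply hneg.not_ge
    show 0 ≤ (N + 1) * _ - _
    rw [h, show spn π (⊥ : Submodule F K) = ⊥ by simp [spn], bot_sup_eq, finrank_bot]
    simp [hz]
  have hUpos := hpos U hUinv hU0ne
  have hspUinv : ∀ g, ∀ d ∈ spn π U, ρD g d ∈ spn π U := by
    intro g d hd
    have h1 := Submodule.mem_map_of_mem (f := ρD g) hd
    rw [← spn_map π (ρK g) (ρD g) (fun i => LinearMap.ext fun k => heq g i k)] at h1
    exact spn_mono π (by rintro _ ⟨k, hk, rfl⟩; exact hUinv g k hk) h1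
  have hZU : Z ≤ spn π U := by
    rcases hZs (spn π U ⊓ Z) (fun g d hd => ⟨hspUinv g d hd.1, hZinv g d hd.2⟩) inf_le_right with h | h
    · exfalso
      apply hneg.not_ge
      show 0 ≤ (N + 1) * _ - _
      have h1 := Submodule.finrank_sup_add_finrank_inf_eq (spn π U) Z
      rw [h, finrank_bot, add_zero] at h1
      rw [h1]
      have h2 : (Module.finrank F U : ℤ) < Module.finrank F ↥(spn π U) := by exact_mod_cast hUpos
      have h4 : N * Module.finrank F U ≤ N * Module.finrank F ↥(spn π U) :=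
        mul_le_mul_of_nonneg_left h2.le (by omega)
      push_cast
      linarith
    · exact h ▸ inf_le_left
  -- the algebra generated by the group
  let A : Subalgebra F (Module.End F K × Module.End F D) :=
    Algebra.adjoin F (Set.range fun g => (ρK g, ρD g))
  let φ : ↥A →ₐ[F] Module.End F K := (AlgHom.fst F _ _).comp A.val
  let ψ : ↥A →ₐ[F] Module.End F D := (AlgHom.snd F _ _).comp A.val
  have hA : ∀ a : ↥A, (∀ i, (π i).comp (φ a) = (ψ a).comp (π i)) ∧
      (∀ W : Submodule F K, (∀ g, ∀ k ∈ W, ρK g k ∈ W) → ∀ k ∈ W, φ a k ∈ W) ∧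
      (∀ W : Submodule F D, (∀ g, ∀ d ∈ W, ρD g d ∈ W) → ∀ d ∈ W, ψ a d ∈ W) := by
    rintro ⟨a, ha⟩
    show (∀ i, (π i).comp a.1 = a.2.comp (π i)) ∧
      (∀ W : Submodule F K, (∀ g, ∀ k ∈ W, ρK g k ∈ W) → ∀ k ∈ W, a.1 k ∈ W) ∧
      (∀ W : Submodule F D, (∀ g, ∀ d ∈ W, ρD g d ∈ W) → ∀ d ∈ W, a.2 d ∈ W)
    refine Algebra.adjoin_induction (p := fun a _ => (∀ i, (π i).comp a.1 = a.2.comp (π i)) ∧
      (∀ W : Submodule F K, (∀ g, ∀ k ∈ W, ρK g k ∈ W) → ∀ k ∈ W, a.1 k ∈ W) ∧
      (∀ W : Submodule F D, (∀ g, ∀ d ∈ W, ρD g d ∈ W) → ∀ d ∈ W, a.2 d ∈ W)) ?_ ?_ ?_ ?_ ha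
    · rintro _ ⟨g, rfl⟩
      exact ⟨fun i => LinearMap.ext fun k => heq g i k, fun W h => h g, fun W h => h g⟩
    · intro r
      refine ⟨fun i => LinearMap.ext fun k => ?_, fun W _ k hk => ?_, fun W _ k hk => ?_⟩
      · simp [Prod.algebraMap_apply, Module.algebraMap_end_apply]
      · simpa [Prod.algebraMap_apply, Module.algebraMap_end_apply] using W.smul_mem r hk
      · simpa [Prod.algebraMap_apply, Module.algebraMap_end_apply] using W.smul_mem r hk
    · intro x y _ _ hx hy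
      exact ⟨fun i => by rw [Prod.fst_add, Prod.snd_add, LinearMap.comp_add, LinearMap.add_comp, hx.1, hy.1],
        fun W h k hk => add_mem (hx.2.1 W h k hk) (hy.2.1 W h k hk),
        fun W h k hk => add_mem (hx.2.2 W h k hk) (hy.2.2 W h k hk)⟩
    · intro x y _ _ hx hy
      refine ⟨fun i => LinearMap.ext fun k => ?_, fun W h k hk => hx.2.1 W h _ (hy.2.1 W h k hk),
        fun W h k hk => hx.2.2 W h _ (hy.2.2 W h k hk)⟩
      have h1 := LinearMap.congr_fun (hx.1 i) (y.1 k)
      have h2 := LinearMap.congr_fun (hy.1 i) k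
      simp only [LinearMap.comp_apply] at h1 h2
      show π i (x.1 (y.1 k)) = x.2 (y.2 (π i k))
      rw [h1, h2]
  have hsimple : SimpleSec ψ ⊥ Z := by
    refine ⟨bot_lt_iff_ne_bot.2 hZne, fun a => (hA a).2.2 Z hZinv, fun a u hu => ?_, fun Nn hNn _ hle => ?_⟩
    · rw [Submodule.mem_bot] at hu; rw [hu, map_zero]; exact zero_mem _
    · exact hZs Nn (fun g => hNn ⟨_, Algebra.subset_adjoin ⟨g, rfl⟩⟩) hle
  haveI : Finite (Module.End F K × Module.End F D) := by
    haveI : Finite (Module.End F K) := Finite.of_injective _ DFunLike.coe_injective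
    haveI : Finite (Module.End F D) := Finite.of_injective _ DFunLike.coe_injective
    infer_instance
  haveI : Finite ↥A := Finite.of_injective _ Subtype.val_injective
  haveI : Nonempty {f : ↥A // f * f = f ∧ ∀ z ∈ Z, ψ f z = z} :=
    ⟨⟨1, mul_one 1, fun z _ => by simp⟩⟩
  obtain ⟨⟨e, hee, heZ⟩, hemin⟩ := Finite.exists_min
    (α := {f : ↥A // f * f = f ∧ ∀ z ∈ Z, ψ f z = z})
     (fun f => Nat.card {x : ↥A // f.1 * x = x})
  have hemin' : ∀ f : ↥A, f * f = f → (∀ z ∈ Z, ψ f z = z) → e * f = f → f * e = f → f = e := by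
    intro f hff hfZ hef hfe
    have hsub : {x : ↥A | f * x = x} ⊆ {x : ↥A | e * x = x} := by
      intro x (hx : f * x = x)
      show e * x = x
      rw [← hx, ← mul_assoc, hef]
    have h := Set.eq_of_subset_of_ncard_le hsub (hemin ⟨f, hff, hfZ⟩) (Set.toFinite _)
    have : e ∈ {x : ↥A | f * x = x} := h ▸ hee
    rw [← hfe]; exact this
  set U1 := U.map (φ e) with hU1
  set U2 := U.map (φ (1 - e)) with hU2
  have hdK : z ∣ Module.finrank F U1 :=
    dvd_finrank_map hsimple φ hee heZ hemin' _ U rfl (fun a => (hA a).2.1 U hUinv)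
  have hdD : z ∣ Module.finrank F ↥((spn π U).map (ψ e)) :=
    dvd_finrank_map hsimple ψ hee heZ hemin' _ _ rfl (fun a => (hA a).2.2 _ hspUinv)
  have hs1 : spn π U1 = (spn π U).map (ψ e) := spn_map π _ _ (hA e).1 U
  have hs2 : spn π U2 = (spn π U).map (ψ (1 - e)) := spn_map π _ _ (hA (1 - e)).1 U
  have hsplitK : Module.finrank F U = Module.finrank F U1 + Module.finrank F U2 ∧ U2 ⊓ U1 = ⊥ := by
    have hdis : U2 ⊓ U1 = ⊥ := by
      rw [eq_bot_iff]
      rintro x ⟨⟨u, -, rfl⟩, u', -, hu'⟩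
      rw [Submodule.mem_bot, ← hu']
      have : φ e (φ e u') = φ e (φ (1 - e) u) := congrArg (φ e) hu'
      rw [← Module.End.mul_apply, ← map_mul, hee, ← Module.End.mul_apply, ← map_mul, mul_sub, mul_one, hee,
        sub_self, map_zero] at this
      exact this
    have hsum : U1 ⊔ U2 = U := by
      refine le_antisymm (sup_le (by rintro _ ⟨u, hu, rfl⟩; exact (hA e).2.1 U hUinv u hu)
        (by rintro _ ⟨u, hu, rfl⟩; exact (hA _).2.1 U hUinv u hu)) fun u hu => ?_
      exact Submodule.mem_sup.2 ⟨φ e u, ⟨u, hu, rfl⟩, φ (1 - e) u, ⟨u, hu, rfl⟩, by simp⟩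
    have h := Submodule.finrank_sup_add_finrank_inf_eq U1 U2
    rw [inf_comm, hdis, hsum, finrank_bot, add_zero] at h
    exact ⟨h, hdis⟩
  have hsplitD : Module.finrank F ↥(spn π U) =
      Module.finrank F ↥(spn π U1) + Module.finrank F ↥(spn π U2) := by
    rw [hs1, hs2]
    have hdis : (spn π U).map (ψ e) ⊓ (spn π U).map (ψ (1 - e)) = ⊥ := by
      rw [eq_bot_iff]
      rintro x ⟨⟨u', -, hu'⟩, u, -, hu⟩
      rw [Submodule.mem_bot, ← hu']
      have : ψ e (ψ e u') = ψ e (ψ (1 - e) u) := congrArg (ψ e) (hu'.trans hu.symm)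
      rw [← Module.End.mul_apply, ← map_mul, hee, ← Module.End.mul_apply, ← map_mul, mul_sub, mul_one, hee,
        sub_self, map_zero] at this
      exact this
    have hsum : (spn π U).map (ψ e) ⊔ (spn π U).map (ψ (1 - e)) = spn π U := by
      refine le_antisymm (sup_le (by rintro _ ⟨u, hu, rfl⟩; exact (hA e).2.2 _ hspUinv u hu)
        (by rintro _ ⟨u, hu, rfl⟩; exact (hA _).2.2 _ hspUinv u hu)) fun u hu => ?_
      exact Submodule.mem_sup.2 ⟨ψ e u, ⟨u, hu, rfl⟩, ψ (1 - e) u, ⟨u, hu, rfl⟩, by simp⟩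
    have h := Submodule.finrank_sup_add_finrank_inf_eq ((spn π U).map (ψ e)) ((spn π U).map (ψ (1 - e)))
    rw [hdis, hsum, finrank_bot, add_zero] at h
    exact h
  have hZ1 : Z ≤ spn π U1 := by
    rw [hs1]; exact fun d hd => ⟨d, hZU hd, heZ d hd⟩
  have hZ2 : spn π U2 ⊓ Z = ⊥ := by
    rw [hs2, eq_bot_iff]
    rintro x ⟨⟨u, -, rfl⟩, hx⟩
    rw [Submodule.mem_bot, ← heZ _ hx, ← Module.End.mul_apply, ← map_mul, mul_sub, mul_one, hee, sub_self, map_zero]
    rfl
  set a1 : ℤ := (Module.finrank F U1 : ℤ) with ha1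
  set a2 : ℤ := (Module.finrank F U2 : ℤ) with ha2
  set b1 : ℤ := (Module.finrank F ↥(spn π U1) : ℤ) with hb1
  set b2 : ℤ := (Module.finrank F ↥(spn π U2) : ℤ) with hb2
  have hΦ1 : Φ U1 = (N + 1) * (b1 - z) - N * a1 := by
    show (N + 1) * _ - _ = _
    rw [sup_eq_left.2 hZ1]
  have hΦ2 : Φ U2 = (N + 1) * b2 - N * a2 := by
    show (N + 1) * _ - _ = _
    have h := Submodule.finrank_sup_add_finrank_inf_eq (spn π U2) Z
    rw [hZ2, finrank_bot, add_zero] at h
    rw [h]; push_cast; ring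
  have hΦU : Φ U = (N + 1) * (b1 + b2 - z) - N * (a1 + a2) := by
    show (N + 1) * _ - _ = _
    rw [sup_eq_left.2 hZU, hsplitK.1, hsplitD]; push_cast; ring
  have hb2' : b2 ≤ a2 := by
    have h := hmin U1
    rw [hΦU, hΦ1] at h
    have h0 : (0 : ℤ) ≤ a2 := Int.natCast_nonneg _
    have h1 : (0 : ℤ) ≤ b2 := Int.natCast_nonneg _
    nlinarith
  have hb1' : b1 - z < a1 := by
    have h := hmin U2
    rw [hΦU, hΦ2] at h
    have h1 : (z : ℤ) ≤ b1 := by rw [hb1, hz]; exact_mod_cast Submodule.finrank_mono hZ1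
    have hne1 : U1 ≠ ⊥ := fun h0 => hZne (eq_bot_iff.2 (hZ1.trans (by simp [h0, spn])))
    have hpos1 : (0 : ℤ) < a1 := by
      rw [ha1]
      exact_mod_cast Nat.pos_of_ne_zero fun h0 => hne1 (Submodule.finrank_eq_zero.1 h0)
    nlinarith
  rw [← hs1] at hdD
  have hb1'' : b1 ≤ a1 := by
    obtain ⟨c, hc⟩ := hdK
    obtain ⟨d, hd⟩ := hdD
    rw [ha1, hb1, hc, hd] at hb1' ⊢
    have : z * d < z * (c + 1) := by
      have h7 : ((z * d : ℕ) : ℤ) < ((z * (c + 1) : ℕ) : ℤ) := by push_cast at hb1' ⊢; linarith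
      exact_mod_cast h7
    exact_mod_cast Nat.mul_le_mul_left z (Nat.lt_succ_iff.1 (lt_of_mul_lt_mul_left' this))
  have : (Module.finrank F U : ℤ) < Module.finrank F ↥(spn π U) := by exact_mod_cast hUpos
  rw [hsplitK.1, hsplitD] at this
  push_cast at this
  omega

end Main

end Cfsg.Agent.Lib.SFourGeneral
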