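import Cfsg.Agent.Lib.SFourGeneral.Restrict
import Cfsg.Agent.Lib.SFourGeneral.Slope
import Cfsg.Agent.Lib.SFourGeneral.Conj
import Mathlib.Algebra.Module.ZMod
import Mathlib.LinearAlgebra.Dual.Lemmas
import Mathlib.FieldTheory.Finiteness

/-!
The case in which the group fixes a point.
-/

set_option autoImplicit false
set_option linter.unusedSectionVars false
set_option linter.style.haveILetI false
set_option maxHeartbeats 1000000

namespace Cfsg.Agent.Lib.SFourGeneral

universe v

variable {G V : Type v} [Group G] [Finite G] [AddCommGroup V] [Finite V] [DistribMulAction G V]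
  [FaithfulSMul G V]

/-- The elements moving every point by a point fixed by the group. -/
def stabGroup (h2 : ∀ v : V, v + v = 0) : Subgroup G where
  carrier := {q | ∀ v : V, q • v + v ∈ fixP (⊤ : Subgroup G)}
  one_mem' v := by rw [one_smul, h2]; exact zero_mem _
  mul_mem' {p q} hp hq v := by
    have h : (p * q) • v + v = p • (q • v + v) + (p • v + v) := by
      rw [mul_smul, smul_add, add_assoc, ← add_assoc (p • v) (p • v) v, h2, zero_add]
    rw [h, hq v p (Subgroup.mem_top p)]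
    exact add_mem (hq v) (hp v)
  inv_mem' {q} hq v := by
    have := hq (q⁻¹ • v)
    rwa [smul_inv_smul, add_comm] at this

theorem stabGroup_sq (h2 : ∀ v : V, v + v = 0) {q : G} (hq : q ∈ stabGroup (G := G) h2) : q * q = 1 :=
  eq_of_smul_eq_smul fun v : V => by
    have h := hq v q (Subgroup.mem_top q)
    rw [smul_add, ← mul_smul] at h
    rw [one_smul, ← sub_eq_zero]
    have h' : (q * q) • v + q • v - (q • v + v) = 0 := sub_eq_zero.2 h
    rw [← h']; abel

theorem stabGroup_comm (h2 : ∀ v : V, v + v = 0) {p q : G} (hp : p ∈ stabGroup (G := G) h2)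
    (hq : q ∈ stabGroup (G := G) h2) : p * q = q * p := by
  have h := stabGroup_sq h2 (mul_mem hp hq)
  calc p * q = (p * q)⁻¹ := (inv_eq_of_mul_eq_one_right h).symm
    _ = q * p := by
      rw [mul_inv_rev, inv_eq_of_mul_eq_one_right (stabGroup_sq h2 hp),
        inv_eq_of_mul_eq_one_right (stabGroup_sq h2 hq)]

theorem stabGroup_normal (h2 : ∀ v : V, v + v = 0) : (stabGroup (G := G) (V := V) h2).Normal := by
  refine ⟨fun q hq g v => ?_⟩
  have h : (g * q * g⁻¹) • v + v = g • (q • (g⁻¹ • v) + g⁻¹ • v) := by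
    rw [smul_add, mul_smul, mul_smul, smul_inv_smul]
  rw [h, hq _ g (Subgroup.mem_top g)]
  exact hq _

theorem stab_conj {A B : Subgroup G} (h2 : ∀ v : V, v + v = 0)
    (hXY : fixP A ⊔ fixP B = (⊤ : AddSubgroup V))
    (hquad : ∀ a ∈ A, ∀ v : V, a • v + v ∈ fixP A) {a r : G} (ha : a ∈ A)
    (hr : r ∈ stabGroup h2 ⊓ fixer (fixP A : AddSubgroup V)) : a * r = r * a := by
  refine eq_of_smul_eq_smul fun v : V => ?_
  obtain ⟨x, hx, y, hy, rfl⟩ := AddSubgroup.mem_sup.1 (hXY ▸ AddSubgroup.mem_top v)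
  have hc : a • (r • y + y) = r • y + y := hr.1 y a (Subgroup.mem_top a)
  have hq : r • (a • y + y) = a • y + y := hr.2 _ (hquad a ha y)
  have hx1 : r • x = x := hr.2 x hx
  rw [smul_add] at hc hq
  rw [mul_smul, mul_smul, smul_add, smul_add, smul_add, smul_add, hx1, hx a ha, hx1]
  congr 1
  have e1 : a • r • y + a • y + (r • a • y + r • y) = r • y + y + (a • y + y) := by rw [hc, hq]
  have e2 : a • r • y + r • a • y + (a • y + r • y) = a • y + r • y + (y + y) := by
    calc _ = a • r • y + a • y + (r • a • y + r • y) := by abel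
      _ = _ := by rw [e1]; abel
  rw [h2 y, add_zero, add_eq_right, ← sub_eq_zero] at e2
  have hneg : -(r • a • y) = r • a • y := neg_eq_of_add_eq_zero_left (h2 _)
  rw [← sub_eq_zero, sub_eq_add_neg, hneg, ← sub_eq_zero]
  exact e2

theorem stab_norm {A B : Subgroup G} (h2 : ∀ v : V, v + v = 0)
    (hXY : fixP A ⊔ fixP B = (⊤ : AddSubgroup V))
    (hquad : ∀ a ∈ A, ∀ v : V, a • v + v ∈ fixP A) {a k : G} (ha : a ∈ A)
    (hk : k ∈ (stabGroup h2 ⊓ fixer (fixP A : AddSubgroup V)) ⊔ (stabGroup h2 ⊓ fixer (fixP B : AddSubgroup V))) :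
    a * k * a⁻¹ ∈ (stabGroup h2 ⊓ fixer (fixP A : AddSubgroup V)) ⊔ (stabGroup h2 ⊓ fixer (fixP B : AddSubgroup V)) := by
  set R := stabGroup (G := G) h2 ⊓ fixer (fixP A : AddSubgroup V) with hR
  set R' := stabGroup (G := G) h2 ⊓ fixer (fixP B : AddSubgroup V) with hR'
  suffices h : R ⊔ R' ≤ (R ⊔ R').comap (MulAut.conj a).toMonoidHom from h hk
  refine sup_le (fun r hr => ?_) (fun r hr => ?_)
  · show a * r * a⁻¹ ∈ R ⊔ R'
    rw [stab_conj h2 hXY hquad ha hr, mul_inv_cancel_right]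
    exact Subgroup.mem_sup_left hr
  · show a * r * a⁻¹ ∈ R ⊔ R'
    have hd : r⁻¹ * (a * r * a⁻¹) ∈ R := by
      refine ⟨(stabGroup (G := G) h2).mul_mem ((stabGroup (G := G) h2).inv_mem hr.1) ((stabGroup_normal h2).conj_mem r hr.1 a), fun x hx => ?_⟩
      have hax : a⁻¹ • x = x := hx _ (inv_mem ha)
      have hrx : a • (r • x) = r • x := by
        have h1 := hr.1 x a (Subgroup.mem_top a)
        rw [smul_add, hx a ha] at h1
        exact add_right_cancel h1
      rw [mul_smul, mul_smul, mul_smul, hax, hrx, inv_smul_smul]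
    have := mul_mem (Subgroup.mem_sup_right (S := R) hr) (Subgroup.mem_sup_left (T := R') hd)
    rwa [mul_inv_cancel_left] at this

/-- The bound on a member with a nonzero fixed point. -/
theorem card_lt_of_fixed {n : ℕ} (ih : ∀ m < n, Goal.{v} m) (hn : Nat.card G + Nat.card V ≤ n)
    (h2 : ∀ v : V, v + v = 0) (hfree : ¬ Cfsg.Involves (Equiv.Perm (Fin 3)) G) (S : Sylow 2 G)
    (W : AddSubgroup V) (M : Subgroup G)
    (hspan : ∀ U : AddSubgroup V, W ≤ U → (∀ g : G, ∀ v ∈ U, g • v ∈ U) → U = ⊤)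
    (hM : M ≠ ⊤) (hMax : ∀ H : Subgroup G, (S : Subgroup G) ≤ H → H ≠ ⊤ → H ≤ M)
    (hQ : Pr (Cfsg.pCore 2 G) (⊤ : AddSubgroup V))
    (A : Subgroup G) (g : G) (hAS : A ≤ (S : Subgroup G)) (hgen : A ⊔ cj g A = ⊤)
    (hXY : fixP A ⊔ fixP (cj g A) = (⊤ : AddSubgroup V))
    (hWX : W ≤ fixP A)
    (hquad : ∀ a ∈ A, ∀ v : V, a • v + v ∈ fixP A)
    (hA1 : ∀ a ∈ A ⊓ Cfsg.pCore 2 G, a ∈ stabGroup h2)
    (hC : fixP (⊤ : Subgroup G) ≠ (⊥ : AddSubgroup V)) (hne : fixP (⊤ : Subgroup G) ≠ (⊤ : AddSubgroup V)) :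
    Nat.card A * Nat.card (fixP A : AddSubgroup V) < Nat.card V := by
  classical
  haveI : Fact (Nat.Prime 2) := ⟨Nat.prime_two⟩
  set B := cj g A with hB
  set X := (fixP A : AddSubgroup V) with hX
  set Y := (fixP B : AddSubgroup V) with hY
  set C := (fixP (⊤ : Subgroup G) : AddSubgroup V) with hCdef
  have hYX : Y = mv g X := fixP_cj g A
  have hA2 : IsPGroup 2 A := S.isPGroup'.to_le hAS
  have hinvG : ∀ U : AddSubgroup V, (∀ a ∈ A, ∀ v ∈ U, a • v ∈ U) → (∀ b ∈ B, ∀ v ∈ U, b • v ∈ U) →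
      ∀ x : G, ∀ v ∈ U, x • v ∈ U := by
    intro U hA hB' x
    have hx : x ∈ A ⊔ B := hgen ▸ Subgroup.mem_top x
    rw [← Subgroup.closure_eq A, ← Subgroup.closure_eq B, ← Subgroup.closure_union] at hx
    induction hx using Subgroup.closure_induction with
    | mem y hy => rcases hy with hy | hy; exacts [hA y hy, hB' y hy]
    | one => intro v hv; rwa [one_smul]
    | mul y z _ _ hy hz => intro v hv; rw [mul_smul]; exact hy _ (hz v hv)
    | inv y _ hy =>
      intro v hv
      obtain ⟨m, hm⟩ : ∃ m : ℕ, y⁻¹ = y ^ m :=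
        ⟨orderOf y - 1, inv_eq_of_mul_eq_one_right (by
          rw [← pow_succ', Nat.sub_add_cancel (orderOf_pos y), pow_orderOf_eq_one])⟩
      rw [hm]
      clear hm
      induction m with
      | zero => rwa [pow_zero, one_smul]
      | succ m ihm => rw [pow_succ', mul_smul]; exact hy _ ihm
  have hXYC : X ⊓ Y = C := by
    refine le_antisymm (fun v hv x _ => ?_) (le_inf (fixP_mono le_top) (fixP_mono le_top))
    have h1 : A ⊔ B ≤ fixer (AddSubgroup.closure {v}) :=
      sup_le (le_fixer_iff.2 ((AddSubgroup.closure_le _).2 (Set.singleton_subset_iff.2 hv.1)))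
        (le_fixer_iff.2 ((AddSubgroup.closure_le _).2 (Set.singleton_subset_iff.2 hv.2)))
    exact h1 (hgen ▸ Subgroup.mem_top x) v (AddSubgroup.subset_closure rfl)
  have hcardV : Nat.card V * Nat.card C = Nat.card X * Nat.card X := by
    have h := card_add_sup_inf X Y
    rw [hXY, hXYC, AddSubgroup.card_top] at h
    rw [h, hYX, card_mv]
  have hquadB : ∀ b ∈ B, ∀ v : V, b • v + v ∈ Y := by
    rintro _ ⟨a, ha, rfl⟩ v
    rw [hYX, mem_mv]
    show g⁻¹ • ((g * a * g⁻¹) • v + v) ∈ X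
    rw [smul_add, mul_smul, mul_smul, inv_smul_smul]
    exact hquad a ha _
  set Kq := stabGroup (G := G) h2 with hKq
  set R := Kq ⊓ fixer X with hR
  set R' := Kq ⊓ fixer Y with hR'
  have hRR' : R' = cj g R := by
    ext x
    simp only [hR', hR, hYX, fixer_mv, mem_cj, Subgroup.mem_inf]
    constructor
    · rintro ⟨h1, h3⟩
      exact ⟨by simpa using (stabGroup_normal h2).conj_mem x h1 g⁻¹, h3⟩
    · rintro ⟨h1, h3⟩
      refine ⟨?_, h3⟩
      have := (stabGroup_normal h2).conj_mem _ h1 g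
      rwa [show g * (g⁻¹ * x * g) * g⁻¹ = x by group] at this
  set K := R ⊔ R' with hK
  have hKKq : K ≤ Kq := sup_le inf_le_left inf_le_left
  have hKn : K.Normal := by
    have hA : ∀ a ∈ A, ∀ k ∈ K, a * k * a⁻¹ ∈ K := fun a ha k hk => stab_norm h2 hXY hquad ha hk
    have hB' : ∀ b ∈ B, ∀ k ∈ K, b * k * b⁻¹ ∈ K := fun b hb k hk => by
      have hk' : k ∈ R' ⊔ R := by rw [sup_comm]; exact hk
      have h := stab_norm h2 (show fixP B ⊔ fixP A = (⊤ : AddSubgroup V) by rw [sup_comm]; exact hXY) hquadB hb hk'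
      show b * k * b⁻¹ ∈ R ⊔ R'
      rw [sup_comm]
      exact h
    have hle : A ⊔ B ≤ Subgroup.normalizer (K : Set G) := sup_le
      (fun a ha => Subgroup.mem_normalizer_iff.2 fun k => ⟨hA a ha k, fun h => by
        simpa [mul_assoc] using (show a⁻¹ * (a * k * a⁻¹) * a⁻¹⁻¹ ∈ K from hA _ (inv_mem ha) _ h)⟩)
      (fun b hb => Subgroup.mem_normalizer_iff.2 fun k => ⟨hB' b hb k, fun h => by
        simpa [mul_assoc] using hB' _ (inv_mem hb) _ h⟩)
    rw [← Subgroup.normalizer_eq_top_iff, eq_top_iff, ← hgen]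
    exact hle
  have hKqle : Kq ≤ Cfsg.pCore 2 G := Cores.le_pCore (stabGroup_normal h2)
    (fun q => ⟨1, Subtype.ext (by rw [pow_one, pow_two]; exact stabGroup_sq h2 q.2)⟩)
  have hRR'card : Nat.card R * Nat.card R ≤ Nat.card K := by
    have hdis : ∀ q ∈ R, q ∈ R' → q = 1 := fun q hq hq' => eq_of_smul_eq_smul fun v : V => by
      obtain ⟨x, hx, y, hy, rfl⟩ := AddSubgroup.mem_sup.1 (hXY ▸ AddSubgroup.mem_top v)
      rw [one_smul, smul_add, hq.2 x hx, hq'.2 y hy]
    have hcard' : Nat.card R' = Nat.card R := by rw [hRR', card_cj]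
    calc Nat.card R * Nat.card R = Nat.card (R × R') := by rw [Nat.card_prod, hcard']
      _ ≤ _ := Nat.card_le_card_of_injective
        (fun p : R × R' => (⟨(p.1 : G) * p.2, mul_mem (Subgroup.mem_sup_left p.1.2) (Subgroup.mem_sup_right p.2.2)⟩ : K))
        (fun p q h => by
          have h' : (p.1 : G) * p.2 = q.1 * q.2 := congrArg Subtype.val h
          have e : (q.1 : G)⁻¹ * p.1 = (q.2 : G) * (p.2 : G)⁻¹ := by
            rw [inv_mul_eq_iff_eq_mul, ← mul_assoc, eq_mul_inv_iff_mul_eq]; exact h'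
          have h1 := hdis _ (mul_mem (inv_mem q.1.2) p.1.2) (e ▸ mul_mem q.2.2 (inv_mem p.2.2))
          refine Prod.ext (Subtype.ext (inv_mul_eq_one.1 h1).symm) (Subtype.ext ?_)
          rw [e] at h1
          exact (mul_inv_eq_one.1 h1).symm)
  -- linear structures
  letI : Module (ZMod 2) V := AddCommGroup.zmodModule (fun v => by rw [two_nsmul]; exact h2 v)
  letI instK : CommGroup K :=
    { K.toGroup with mul_comm := fun a b => Subtype.ext (stabGroup_comm h2 (hKKq a.2) (hKKq b.2)) }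
  letI : Module (ZMod 2) (Additive K) := AddCommGroup.zmodModule (fun k => by
    rw [two_nsmul]
    exact congrArg Additive.ofMul (Subtype.ext (stabGroup_sq h2 (hKKq (Additive.toMul k).2)) :
      Additive.toMul k * Additive.toMul k = 1))
  haveI : Finite (Additive K) := inferInstanceAs (Finite K)
  haveI : Finite (Module.Dual (ZMod 2) V) := Finite.of_injective _ DFunLike.coe_injective
  have hCfix : ∀ c ∈ C, ∀ x : G, x • c = c := fun c hc x => hc x (Subgroup.mem_top x)
  let CS : Submodule (ZMod 2) V := AddSubgroup.toZModSubmodule 2 C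
  have hCS : ∀ v, v ∈ CS ↔ v ∈ C := fun v => Iff.rfl
  let lin : G →* Module.End (ZMod 2) V :=
    { toFun := fun x => (DistribSMul.toAddMonoidHom V x).toZModLinearMap 2
      map_one' := LinearMap.ext fun v => one_smul G v
      map_mul' := fun x y => LinearMap.ext fun v => mul_smul x y v }
  let dual : G →* Module.End (ZMod 2) (Module.Dual (ZMod 2) V) :=
    { toFun := fun x => LinearMap.lcomp (ZMod 2) (ZMod 2) (lin x⁻¹)
      map_one' := LinearMap.ext fun φ => LinearMap.ext fun v => by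
        show φ ((1 : G)⁻¹ • v) = φ v
        rw [inv_one, one_smul]
      map_mul' := fun x y => LinearMap.ext fun φ => LinearMap.ext fun v => by
        show φ ((x * y)⁻¹ • v) = φ (y⁻¹ • x⁻¹ • v)
        rw [mul_inv_rev, mul_smul] }
  let conjK : G →* Module.End (ZMod 2) (Additive K) :=
    { toFun := fun x => (MonoidHom.toAdditive (MulAut.conjNormal (H := K) x).toMonoidHom).toZModLinearMap 2
      map_one' := LinearMap.ext fun k => congrArg Additive.ofMul (by
        show MulAut.conjNormal (1 : G) (Additive.toMul k) = Additive.toMul k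
        rw [map_one]; rfl)
      map_mul' := fun x y => LinearMap.ext fun k => congrArg Additive.ofMul (by
        show MulAut.conjNormal (x * y) (Additive.toMul k) = MulAut.conjNormal x (MulAut.conjNormal y (Additive.toMul k))
        rw [map_mul]; rfl) }
  have hkfix : ∀ (k k' : G), k ∈ Kq → k' ∈ Kq → ∀ v : V, (k * k') • v + v = (k • v + v) + (k' • v + v) := by
    intro k k' hk hk' v
    have h1 := hCfix _ (hk' v) k
    rw [smul_add] at h1
    rw [mul_smul, ← h1, show k • v + v + (k • k' • v + k • v) = k • k' • v + v + (k • v + k • v) by abel,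
      h2, add_zero]
  let π : Module.Dual (ZMod 2) V → Additive K →ₗ[ZMod 2] Module.Dual (ZMod 2) V := fun χ =>
    (AddMonoidHom.mk' (fun k : Additive K =>
      χ.comp (lin ((Additive.toMul k : K) : G) + LinearMap.id))
      (fun k k' => LinearMap.ext fun v => by
        show χ ((((Additive.toMul k : K) : G) * ((Additive.toMul k' : K) : G)) • v + v) =
          χ (((Additive.toMul k : K) : G) • v + v) + χ (((Additive.toMul k' : K) : G) • v + v)
        rw [← map_add, hkfix _ _ (hKKq (Additive.toMul k).2) (hKKq (Additive.toMul k').2)])).toZModLinearMap 2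
  have hπ : ∀ χ (k : Additive K) v, π χ k v = χ (((Additive.toMul k : K) : G) • v + v) := fun _ _ _ => rfl
  have heq : ∀ x χ k, π χ (conjK x k) = dual x (π χ k) := by
    intro x χ k
    refine LinearMap.ext fun v => ?_
    show χ (((MulAut.conjNormal x (Additive.toMul k) : K) : G) • v + v) =
      χ (((Additive.toMul k : K) : G) • (x⁻¹ • v) + x⁻¹ • v)
    rw [MulAut.conjNormal_apply, mul_smul, mul_smul]
    congr 1
    rw [← hCfix _ (hKKq (Additive.toMul k).2 (x⁻¹ • v)) x, smul_add, smul_inv_smul]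
  set D1 := CS.dualAnnihilator with hD1
  have hD1mem : ∀ φ : Module.Dual (ZMod 2) V, φ ∈ D1 ↔ ∀ c ∈ C, φ c = 0 := fun φ =>
    (Submodule.mem_dualAnnihilator φ).trans Iff.rfl
  have hD1inv : ∀ x, ∀ φ ∈ D1, dual x φ ∈ D1 := fun x φ hφ => (hD1mem _).2 fun c hc => by
    show φ (x⁻¹ • c) = 0
    rw [hCfix c hc]; exact (hD1mem φ).1 hφ c hc
  have hD1ne : D1 ≠ ⊥ := by
    intro h
    have h' := congrArg Submodule.dualCoannihilator h
    rw [hD1, Subspace.dualAnnihilator_dualCoannihilator_eq, Submodule.dualCoannihilator_bot] at h'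
    exact hne (eq_top_iff.2 fun v _ => (hCS v).1 (h' ▸ Submodule.mem_top))
  have hπD1 : ∀ χ k, π χ k ∈ D1 := fun χ k => (hD1mem _).2 fun c hc => by
    rw [hπ, hCfix c hc, h2, map_zero]
  have h2pow : ∀ {M : Type v} [AddCommGroup M] [Module (ZMod 2) M] [Finite M],
      Nat.card M = 2 ^ Module.finrank (ZMod 2) M := by
    intro M _ _ _
    rw [Module.natCard_eq_pow_finrank (K := ZMod 2), Nat.card_zmod]
  have hpos : ∀ L : Submodule (ZMod 2) (Additive K), (∀ x, ∀ k ∈ L, conjK x k ∈ L) → L ≠ ⊥ →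
      Module.finrank (ZMod 2) L < Module.finrank (ZMod 2) (spn π L) := by
    intro L hLinv hL
    let K0 : Subgroup G :=
      { carrier := {x | ∃ hx : x ∈ K, Additive.ofMul (⟨x, hx⟩ : K) ∈ L}
        one_mem' := ⟨one_mem K, L.zero_mem⟩
        mul_mem' := fun {a b} ⟨ha, ha'⟩ ⟨hb, hb'⟩ => ⟨mul_mem ha hb, L.add_mem ha' hb'⟩
        inv_mem' := fun {a} ⟨ha, ha'⟩ => ⟨inv_mem ha, L.neg_mem ha'⟩ }
    have hK0mem : ∀ k : Additive K, k ∈ L → ((Additive.toMul k : K) : G) ∈ K0 := fun k hk =>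
      ⟨(Additive.toMul k).2, hk⟩
    have hcard0 : Nat.card K0 = Nat.card L := Nat.card_congr
      { toFun := fun x => ⟨_, x.2.2⟩
        invFun := fun k => ⟨_, hK0mem k.1 k.2⟩
        left_inv := fun x => rfl
        right_inv := fun k => rfl }
    have hK0K : K0 ≤ K := fun x hx => hx.1
    have hnb : ¬ K0 ≤ fixer (⊤ : AddSubgroup V) := by
      rw [fixer_top, le_bot_iff]
      intro h
      obtain ⟨k, hk, hk0⟩ := Submodule.exists_mem_ne_zero_of_ne_bot hL
      have h1 := hK0mem k hk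
      rw [h, Subgroup.mem_bot] at h1
      exact hk0 (congrArg Additive.ofMul (Subtype.ext h1 : Additive.toMul k = 1))
    have hP := hQ K0 (hK0K.trans (hKKq.trans hKqle))
      (fun r hr => by rw [stabGroup_sq h2 (hKKq (hK0K hr))]; exact one_mem _) hnb
    rw [top_inf_eq, fixer_top, Subgroup.relIndex_bot_left, hcard0] at hP
    let F : Submodule (ZMod 2) V := AddSubgroup.toZModSubmodule 2 (fixP K0 : AddSubgroup V)
    have hco : (spn π L).dualCoannihilator = F := by
      ext v
      rw [Submodule.mem_dualCoannihilator]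
      constructor
      · intro h x hx
        rw [← sub_eq_zero, sub_eq_add_neg, neg_eq_of_add_eq_zero_left (h2 v)]
        refine (Module.forall_dual_apply_eq_zero_iff (ZMod 2) _).1 fun χ => ?_
        exact h _ (Submodule.mem_iSup_of_mem χ ⟨_, hx.2, rfl⟩)
      · intro hv φ hφ
        refine Submodule.iSup_induction _ (motive := fun φ => φ v = 0) hφ ?_ rfl ?_
        · rintro χ _ ⟨k, hk, rfl⟩
          rw [hπ, hv _ (hK0mem k hk), h2, map_zero]
        · intro a b ha hb
          rw [LinearMap.add_apply, ha, hb, add_zero]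
    have h3 := Subspace.finrank_add_finrank_dualCoannihilator_eq (spn π L)
    rw [hco] at h3
    have hF : Nat.card (fixP K0 : AddSubgroup V) = Nat.card F := rfl
    rw [AddSubgroup.card_top, hF, h2pow (M := ↥F), h2pow (M := V), h2pow (M := ↥L), ← pow_add] at hP
    have := (Nat.pow_lt_pow_iff_right Nat.one_lt_two).1 hP
    omega
  obtain ⟨Z, hZD, hZne, hZinv, hZs, hbound⟩ := exists_simple_le conjK dual π heq D1 hD1inv hD1ne hπD1 hpos
  have hKZC : Nat.card K * Nat.card Z * Nat.card C ≤ Nat.card V := by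
    have h3 := Subspace.finrank_add_finrank_dualAnnihilator_eq CS
    have hCc : Nat.card C = Nat.card CS := rfl
    have hKc : Nat.card K = Nat.card (Additive K) := rfl
    rw [hKc, hCc, h2pow (M := Additive K), h2pow (M := ↥Z), h2pow (M := ↥CS), h2pow (M := V), ← pow_add, ← pow_add]
    exact Nat.pow_le_pow_right (by norm_num) (by rw [← hD1] at h3; omega)
  -- the action on `Z`
  letI : DistribMulAction G (Module.Dual (ZMod 2) V) :=
    { smul := fun x φ => dual x φ
      one_smul := fun φ => by show dual 1 φ = φ; rw [map_one]; rfl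
      mul_smul := fun x y φ => by show dual (x * y) φ = dual x (dual y φ); rw [map_mul]; rfl
      smul_zero := fun x => map_zero (dual x)
      smul_add := fun x a b => map_add (dual x) a b }
  have hsmul : ∀ (x : G) (φ : Module.Dual (ZMod 2) V) (v : V), (x • φ) v = φ (x⁻¹ • v) := fun _ _ _ => rfl
  have h2D : ∀ φ : Module.Dual (ZMod 2) V, φ + φ = 0 := fun φ => LinearMap.ext fun v => by
    rw [LinearMap.add_apply, ← map_add, h2, map_zero]; rfl
  set ZG := Z.toAddSubgroup with hZG
  have hnofix : ∀ φ ∈ ZG, (∀ x : G, x • φ = φ) → φ = 0 := by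
    intro φ hφ hfix
    have hφv : ∀ (x : G) v, φ (x • v) = φ v := fun x v => by
      have h := congrArg (fun f : Module.Dual (ZMod 2) V => f v) (hfix x⁻¹)
      simpa [hsmul] using h
    have key : ∀ (A' B' : Subgroup G) (k : G), A' ⊔ B' = ⊤ → fixP A' ⊔ fixP B' = (⊤ : AddSubgroup V) →
        fixP A' ⊓ fixP B' = C →
        (∀ a ∈ A', ∀ v : V, a • v + v ∈ fixP A') → (∀ b ∈ B', ∀ v : V, b • v + v ∈ fixP B') →
        (∀ w ∈ W, k • w ∈ fixP B') → ∀ x ∈ (fixP A' : AddSubgroup V), φ x = 0 := by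
      intro A' B' k hgen' hXY' hC' hqa hqb hk x hx
      let N0 : AddSubgroup V := (fixP A' ⊓ φ.toAddMonoidHom.ker) ⊔ fixP B'
      have hinvA : ∀ a ∈ A', ∀ v ∈ N0, a • v ∈ N0 := by
        intro a ha v hv
        obtain ⟨p, hp, q, hq, rfl⟩ := AddSubgroup.mem_sup.1 hv
        refine AddSubgroup.mem_sup.2 ⟨p + (a • q + q), ⟨add_mem hp.1 (hqa a ha q), ?_⟩, q, hq, ?_⟩
        · show φ (p + (a • q + q)) = 0
          rw [map_add, map_add, hφv, show φ p = 0 from hp.2, zero_add, ← map_add, h2, map_zero]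
        · rw [smul_add, hp.1 a ha, show p + (a • q + q) + q = p + a • q + (q + q) by abel, h2, add_zero]
      have hinvB : ∀ b ∈ B', ∀ v ∈ N0, b • v ∈ N0 := by
        intro b hb v hv
        obtain ⟨p, hp, q, hq, rfl⟩ := AddSubgroup.mem_sup.1 hv
        refine AddSubgroup.mem_sup.2 ⟨p, hp, (b • p + p) + q, add_mem (hqb b hb p) hq, ?_⟩
        rw [smul_add, hq b hb, show p + (b • p + p + q) = b • p + q + (p + p) by abel, h2, add_zero]
      have hinv : ∀ y : G, ∀ v ∈ N0, y • v ∈ N0 := fun y => by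
        have : A' ⊔ B' ≤
            { carrier := {y : G | ∀ v ∈ N0, y • v ∈ N0}
              one_mem' := fun v hv => by rwa [one_smul]
              mul_mem' := fun ha hb v hv => by rw [mul_smul]; exact ha _ (hb v hv)
              inv_mem' := fun {y} hy v hv => by
                obtain ⟨m, hm⟩ : ∃ m : ℕ, y⁻¹ = y ^ m :=
                  ⟨orderOf y - 1, inv_eq_of_mul_eq_one_right (by
                    rw [← pow_succ', Nat.sub_add_cancel (orderOf_pos y), pow_orderOf_eq_one])⟩
                rw [hm]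
                clear hm
                induction m with
                | zero => rwa [pow_zero, one_smul]
                | succ m ihm => rw [pow_succ', mul_smul]; exact hy _ ihm } := sup_le hinvA hinvB
        exact this (hgen' ▸ Subgroup.mem_top y)
      have htop := hspan N0 (fun w hw => by
        have := hinv k⁻¹ _ (AddSubgroup.mem_sup_right (hk w hw))
        rwa [inv_smul_smul] at this) hinv
      obtain ⟨p, hp, q, hq, hpq⟩ := AddSubgroup.mem_sup.1 (htop ▸ AddSubgroup.mem_top x : x ∈ N0)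
      have hqC : q ∈ C := hC' ▸ ⟨((fixP A').add_mem_cancel_left (AddSubgroup.mem_inf.1 hp).1).1 (hpq.symm ▸ hx), hq⟩
      rw [← hpq, map_add, show φ p = 0 from hp.2, (hD1mem φ).1 (hZD hφ) q hqC, zero_add]
    have hX0 : ∀ x ∈ X, φ x = 0 := key A B g hgen hXY hXYC hquad hquadB fun w hw => by
      show g • w ∈ Y
      rw [hYX]; exact smul_mem_mv (hWX hw)
    have hY0 : ∀ y ∈ Y, φ y = 0 := key B A 1 (by rw [sup_comm]; exact hgen) (by rw [sup_comm]; exact hXY)
      (by rw [inf_comm]; exact hXYC) hquadB hquad (fun w hw => by rw [one_smul]; exact hWX hw)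
    refine LinearMap.ext fun v => ?_
    obtain ⟨x, hx, y, hy, rfl⟩ := AddSubgroup.mem_sup.1 (hXY ▸ AddSubgroup.mem_top v)
    rw [map_add, hX0 x hx, hY0 y hy, add_zero]; rfl
  have hZGne : ZG ≠ ⊥ := fun h => hZne (Submodule.toAddSubgroup_injective (h.trans (by rfl)))
  have hZGinv : ∀ x ∈ (⊤ : Subgroup G), ∀ φ ∈ ZG, x • φ ∈ ZG := fun x _ φ hφ => hZinv x φ hφ
  have hsimple : ∀ U : AddSubgroup (Module.Dual (ZMod 2) V), (∀ x : G, ∀ φ ∈ U, x • φ ∈ U) → U ≤ ZG →
      U ≠ ⊥ → U = ZG := by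
    intro U hU hle hUne
    rcases hZs (AddSubgroup.toZModSubmodule 2 U) hU hle with h | h
    · exact absurd (eq_bot_iff.2 fun u hu => (show u ∈ (⊥ : Submodule (ZMod 2) _) from h ▸ hu)) hUne
    · exact AddSubgroup.ext fun u => by
        rw [hZG, ← h]; rfl
  set NZ := (fixer ZG : Subgroup G) with hNZ
  haveI hNZn : NZ.Normal := ⟨fun q hq x φ hφ => by
    rw [mul_smul, mul_smul, hq _ (hZGinv x⁻¹ (Subgroup.mem_top _) φ hφ), smul_inv_smul]⟩
  have hSfix : ZG ⊓ fixP (S : Subgroup G) ≠ ⊥ :=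
    fixP_ne_bot h2D _ S.isPGroup' ZG (fun p _ => hZGinv p (Subgroup.mem_top p)) hZGne
  have hNM : NZ ≤ M := by
    refine le_sup_left.trans (hMax (NZ ⊔ (S : Subgroup G)) le_sup_right fun htop => ?_)
    obtain ⟨φ, hφ, hφ0⟩ : ∃ φ ∈ ZG ⊓ fixP (S : Subgroup G), φ ≠ 0 := by
      by_contra hcon
      push Not at hcon
      exact hSfix (eq_bot_iff.2 fun φ hφ => AddSubgroup.mem_bot.2 (hcon φ hφ))
    refine hφ0 (hnofix φ hφ.1 fun x => ?_)
    have hle : NZ ⊔ (S : Subgroup G) ≤ fixer (AddSubgroup.closure {φ}) := sup_le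
      (fixer_mono ((AddSubgroup.closure_le _).2 (Set.singleton_subset_iff.2 hφ.1)))
      (le_fixer_iff.2 ((AddSubgroup.closure_le _).2 (Set.singleton_subset_iff.2 hφ.2)))
    exact hle (htop ▸ Subgroup.mem_top x) φ (AddSubgroup.subset_closure rfl)
  have hNQ : (S : Subgroup G) ⊓ NZ ≤ Cfsg.pCore 2 G := by
    set T0 := (S : Subgroup G) ⊓ NZ with hT0
    by_cases hn : T0.Normal
    · exact Cores.le_pCore hn (S.isPGroup'.to_le inf_le_left)
    exfalso
    refine hM (eq_top_iff.2 fun x _ => ?_)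
    let ST : Sylow 2 ↥(⊤ : Subgroup G) := S.subtype le_top
    have hST : ((ST : Subgroup ↥(⊤ : Subgroup G)).map (⊤ : Subgroup G).subtype) = (S : Subgroup G) := by
      rw [Sylow.coe_subtype, Subgroup.subgroupOf_map_subtype, inf_top_eq]
    obtain ⟨e, he, hex⟩ := exists_frattini ⊤ NZ le_top
      (fun k _ => by rintro _ ⟨z, hz, rfl⟩; exact hNZn.conj_mem z hz k) ST (Subgroup.mem_top x)
    rw [hST, ← hT0] at hex
    have hexM : e * x ∈ M := by
      refine hMax (Subgroup.normalizer (T0 : Set G)) (fun s hs => ?_) (fun h => hn (Subgroup.normalizer_eq_top_iff.1 h)) ?_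
      · rw [Subgroup.mem_normalizer_iff]
        intro t
        rw [Subgroup.mem_inf, Subgroup.mem_inf]
        constructor
        · intro ht; exact ⟨mul_mem (mul_mem hs ht.1) (inv_mem hs), hNZn.conj_mem t ht.2 s⟩
        · intro ht
          have h1 := mul_mem (mul_mem (inv_mem hs) ht.1) hs
          have h3 := hNZn.conj_mem _ ht.2 s⁻¹
          exact ⟨by simpa [mul_assoc] using h1, by simpa [mul_assoc] using h3⟩
      · rw [Subgroup.mem_normalizer_iff]
        intro t
        conv_rhs => rw [← hex, mem_cj]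
        constructor
        · intro ht; simpa [mul_assoc] using ht
        · intro ht; simpa [mul_assoc] using ht
    simpa using mul_mem (inv_mem (hNM he)) hexM
  -- halves
  set ZA := ZG ⊓ fixP A with hZA
  set ZB := ZG ⊓ fixP B with hZB
  have hquadZ : ∀ a ∈ A, ∀ φ : Module.Dual (ZMod 2) V, a • φ + φ ∈ fixP A := by
    intro a ha φ a' ha'
    refine LinearMap.ext fun v => ?_
    show φ (a⁻¹ • (a'⁻¹ • v)) + φ (a'⁻¹ • v) = φ (a⁻¹ • v) + φ v
    have h := hquad a'⁻¹ (inv_mem ha') v a⁻¹ (inv_mem ha)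
    rw [smul_add] at h
    rw [← map_add, ← map_add]
    congr 1
    have h' : a⁻¹ • a'⁻¹ • v + a⁻¹ • v + (a'⁻¹ • v + v) = 0 := by rw [h, h2]
    rw [← sub_eq_zero, sub_eq_add_neg, neg_eq_of_add_eq_zero_left (h2 (a⁻¹ • v + v))]
    rw [← h']; abel
  have hquadZB : ∀ b ∈ B, ∀ φ : Module.Dual (ZMod 2) V, b • φ + φ ∈ fixP B := by
    rintro _ ⟨a, ha, rfl⟩ φ
    rw [hB, fixP_cj, mem_mv]
    show g⁻¹ • ((g * a * g⁻¹) • φ + φ) ∈ fixP A
    rw [smul_add, mul_smul, mul_smul, inv_smul_smul]
    exact hquadZ a ha _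
  have hZBmv : ZB = mv g ZA := by
    rw [hZB, hB, fixP_cj]
    ext φ
    simp only [AddSubgroup.mem_inf, mem_mv, hZA]
    exact and_congr_left fun _ => ⟨hZGinv g⁻¹ (Subgroup.mem_top _) φ, fun h => by
      simpa using hZGinv g (Subgroup.mem_top _) _ h⟩
  have hZAB : ZA ⊔ ZB = ZG := by
    refine hsimple _ ?_ (sup_le inf_le_left inf_le_left) ?_
    · intro x
      have hle : A ⊔ B ≤
          { carrier := {x : G | ∀ φ ∈ ZA ⊔ ZB, x • φ ∈ ZA ⊔ ZB}
            one_mem' := fun v hv => by rwa [one_smul]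
            mul_mem' := fun ha hb v hv => by rw [mul_smul]; exact ha _ (hb v hv)
            inv_mem' := fun {y} hy v hv => by
              obtain ⟨m, hm⟩ : ∃ m : ℕ, y⁻¹ = y ^ m :=
                ⟨orderOf y - 1, inv_eq_of_mul_eq_one_right (by
                  rw [← pow_succ', Nat.sub_add_cancel (orderOf_pos y), pow_orderOf_eq_one])⟩
              rw [hm]
              clear hm
              induction m with
              | zero => rwa [pow_zero, one_smul]
              | succ m ihm => rw [pow_succ', mul_smul]; exact hy _ ihm } := by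
        refine sup_le (fun a ha φ hφ => ?_) (fun b hb φ hφ => ?_)
        · obtain ⟨p, hp, q, hq, rfl⟩ := AddSubgroup.mem_sup.1 hφ
          refine AddSubgroup.mem_sup.2 ⟨p + (a • q + q), add_mem hp
            ⟨add_mem (hZGinv a (Subgroup.mem_top a) q hq.1) hq.1, hquadZ a ha q⟩, q, hq, ?_⟩
          rw [smul_add, hp.2 a ha, show p + (a • q + q) + q = p + a • q + (q + q) by abel, h2D, add_zero]
        · obtain ⟨p, hp, q, hq, rfl⟩ := AddSubgroup.mem_sup.1 hφ
          refine AddSubgroup.mem_sup.2 ⟨p, hp, (b • p + p) + q, add_mem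
            ⟨add_mem (hZGinv b (Subgroup.mem_top b) p hp.1) hp.1, hquadZB b hb p⟩ hq, ?_⟩
          rw [smul_add, hq.2 b hb, show p + (b • p + p + q) = b • p + q + (p + p) by abel, h2D, add_zero]
      exact hle (hgen ▸ Subgroup.mem_top x)
    · intro h
      exact fixP_ne_bot h2D A hA2 ZG (fun p _ => hZGinv p (Subgroup.mem_top p)) hZGne
        (eq_bot_iff.2 (le_sup_left.trans h.le))
  have hZABdis : ZA ⊓ ZB = ⊥ := by
    rw [eq_bot_iff]
    intro φ hφ
    refine AddSubgroup.mem_bot.2 (hnofix φ hφ.1.1 fun x => ?_)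
    have hle : A ⊔ B ≤ fixer (AddSubgroup.closure {φ}) :=
      sup_le (le_fixer_iff.2 ((AddSubgroup.closure_le _).2 (Set.singleton_subset_iff.2 hφ.1.2)))
        (le_fixer_iff.2 ((AddSubgroup.closure_le _).2 (Set.singleton_subset_iff.2 hφ.2.2)))
    exact hle (hgen ▸ Subgroup.mem_top x) φ (AddSubgroup.subset_closure rfl)
  have hcardZ : Nat.card ZG = Nat.card ZA * Nat.card ZA := by
    have h := card_add_sup_inf ZA ZB
    rw [hZAB, hZABdis, AddSubgroup.card_bot, mul_one, hZBmv, card_mv] at h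
    exact h
  -- induction
  have hcardC2 : 2 ≤ Nat.card C := by
    haveI : Nontrivial C := (AddSubgroup.nontrivial_iff_ne_bot C).2 hC
    exact Finite.one_lt_card
  have hZV : Nat.card ZG < Nat.card V := by
    have h1 : 1 ≤ Nat.card K := Nat.card_pos
    have h3 : Nat.card Z * 2 ≤ Nat.card V := by
      refine le_trans ?_ hKZC
      calc Nat.card Z * 2 = 1 * Nat.card Z * 2 := by ring
        _ ≤ Nat.card K * Nat.card Z * Nat.card C := Nat.mul_le_mul (Nat.mul_le_mul_right _ h1) hcardC2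
    have h4 : 0 < Nat.card Z := Nat.card_pos
    have h5 : Nat.card ZG = Nat.card Z := rfl
    omega
  have hlt : Nat.card ↥(resHom ⊤ ZG hZGinv).range + Nat.card ZG < n := by
    have h1 : Nat.card ↥(resHom ⊤ ZG hZGinv).range ≤ Nat.card G := by
      calc _ ≤ Nat.card (⊤ : Subgroup G) :=
            Nat.card_le_card_of_surjective _ (MonoidHom.rangeRestrict_surjective _)
        _ = _ := Subgroup.card_top
    omega
  set W' := ZG ⊓ fixP (S : Subgroup G) with hW'
  have hSmap : (((S.subtype le_top : Sylow 2 ↥(⊤ : Subgroup G)) : Subgroup ↥(⊤ : Subgroup G)).map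
      (⊤ : Subgroup G).subtype) = (S : Subgroup G) := by
    rw [Sylow.coe_subtype, Subgroup.subgroupOf_map_subtype, inf_top_eq]
  have hP := Goal.apply (ih _ hlt) h2D ⊤ ZG hZGinv (not_involves_resHom hfree _ _ _) (S.subtype le_top) W'
    inf_le_left (by rw [hSmap]; intro t ht w hw; rw [hw.2 t ht]; exact hw)
    (by rw [hSmap]; exact pr_of_le_fixer (le_fixer_iff.2 inf_le_right))
    (fun U' hW'U hU' => by
      have h := hsimple (U' ⊓ ZG) (fun x φ hφ => ⟨hU' x (Subgroup.mem_top x) φ hφ.1, hZGinv x (Subgroup.mem_top x) φ hφ.2⟩)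
        inf_le_right (fun h => hSfix (eq_bot_iff.2 ((le_inf hW'U inf_le_left).trans h.le)))
      rw [← h]; exact inf_le_left)
    le_rfl
  rw [hSmap] at hP
  have hAnf : ¬ A ≤ NZ := by
    intro hA
    have hfixall : ZG ≤ ZB := by
      intro φ hφ
      refine ⟨hφ, ?_⟩
      rintro _ ⟨a, ha, rfl⟩
      exact hNZn.conj_mem a (hA ha) g φ hφ
    have h1 : ZG ≤ ZA := fun φ hφ => ⟨hφ, fun a ha => hA ha φ hφ⟩
    exact hZGne (eq_bot_iff.2 ((le_inf h1 hfixall).trans hZABdis.le))
  have hAsq : ∀ a ∈ A, a * a = 1 := fun a ha => eq_of_smul_eq_smul fun v : V => by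
    have h := hquad a ha v a ha
    rw [smul_add, ← mul_smul] at h
    rw [one_smul, ← sub_eq_zero]
    have h' : (a * a) • v + a • v - (a • v + v) = 0 := sub_eq_zero.2 h
    rw [← h']; abel
  have hidx := hP A hAS (fun a ha => by rw [hAsq a ha]; exact one_mem _) hAnf
  rw [← hZA, hcardZ] at hidx
  have hidx' : NZ.relIndex A < Nat.card ZA := lt_of_mul_lt_mul_right' hidx
  have hA1R : Nat.card ↥(NZ ⊓ A) ≤ Nat.card R := by
    refine Subgroup.card_le_of_le fun a ha => ⟨hA1 a ⟨ha.2, hNQ ⟨hAS ha.2, ha.1⟩⟩, ?_⟩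
    exact fun x hx => hx a ha.2
  have hAc : Nat.card A = NZ.relIndex A * Nat.card ↥(NZ ⊓ A) := by
    rw [← Subgroup.inf_relIndex_right, mul_comm]
    have := Subgroup.relIndex_mul_relIndex ⊥ (NZ ⊓ A) A bot_le inf_le_right
    rwa [Subgroup.relIndex_bot_left, Subgroup.relIndex_bot_left, eq_comm] at this
  have hAlt : Nat.card A < Nat.card ZA * Nat.card R := by
    rw [hAc]
    exact lt_of_le_of_lt (Nat.mul_le_mul_left _ hA1R) (Nat.mul_lt_mul_of_pos_right hidx' Nat.card_pos)
  have hsq : Nat.card A * Nat.card A * Nat.card C < Nat.card V := by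
    have h5 : Nat.card ZG = Nat.card Z := rfl
    calc Nat.card A * Nat.card A * Nat.card C
        < (Nat.card ZA * Nat.card R) * (Nat.card ZA * Nat.card R) * Nat.card C :=
          Nat.mul_lt_mul_of_pos_right (Nat.mul_self_lt_mul_self hAlt) Nat.card_pos
      _ = (Nat.card R * Nat.card R) * Nat.card Z * Nat.card C := by rw [← h5, hcardZ]; ring
      _ ≤ Nat.card K * Nat.card Z * Nat.card C :=
          Nat.mul_le_mul_right _ (Nat.mul_le_mul_right _ hRR'card)
      _ ≤ _ := hKZC
  refine Nat.mul_self_lt_mul_self_iff.1 ?_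
  calc Nat.card A * Nat.card X * (Nat.card A * Nat.card X)
      = Nat.card A * Nat.card A * (Nat.card X * Nat.card X) := by ring
    _ = Nat.card A * Nat.card A * Nat.card C * Nat.card V := by rw [← hcardV]; ring
    _ < Nat.card V * Nat.card V := Nat.mul_lt_mul_of_pos_right hsq Nat.card_pos

end Cfsg.Agent.Lib.SFourGeneral
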