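import Cfsg.Agent.Lib.SFourGeneral.Main
import Cfsg.Agent.Lib.SFourLocal.Layer
import Cfsg.Agent.Lib.SFourLocal.Local

/-!
The factorisation of a group of characteristic two without sections isomorphic to the symmetric group of
degree four.
-/

set_option autoImplicit false
set_option linter.unusedSectionVars false
set_option linter.style.haveILetI false
set_option maxHeartbeats 1000000

namespace Cfsg.Agent.Lib.SFourGeneral

universe u

open Cfsg.Agent.Lib.SFourLocal (omZ)

variable {X : Type u} [Group X] [Finite X]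

/-- A `2`-subgroup of the Sylow subgroup is no offender on a normal subgroup generated by conjugates of
elements centralised by that Sylow subgroup. -/
theorem no_offender (hfree : ¬ Cfsg.Involves (Equiv.Perm (Fin 4)) X) (T : Sylow 2 X)
    {V : Subgroup X} [V.Normal] (hV : Cfsg.IsElementaryAbelian 2 V) (Z : Set X) (hZV : Z ⊆ V)
    (hZT : ∀ z ∈ Z, ∀ t ∈ (T : Subgroup X), t * z = z * t)
    (hgen : V ≤ Subgroup.closure {v | ∃ x, ∃ z ∈ Z, v = x * z * x⁻¹})
    (R : Subgroup X) (hRT : R ≤ (T : Subgroup X))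
    (hR : ∀ r ∈ R, r * r ∈ Subgroup.centralizer (V : Set X)) (hn : ¬ R ≤ Subgroup.centralizer (V : Set X)) :
    (Subgroup.centralizer (V : Set X)).relIndex R * Nat.card ↥(V ⊓ Subgroup.centralizer (R : Set X)) <
      Nat.card V := by
  classical
  haveI : Fact (Nat.Prime 2) := ⟨Nat.prime_two⟩
  obtain ⟨hVc, hV2⟩ := LocalEven2.isElementaryAbelian_iff.1 hV
  letI : CommGroup ↥V := { V.toGroup with mul_comm := fun a b => Subtype.ext (hVc a a.2 b b.2) }
  letI act : DistribMulAction X (Additive ↥V) :=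
    { smul := fun x v => Additive.ofMul (MulAut.conjNormal x (Additive.toMul v))
      one_smul := fun v => by
        show Additive.ofMul (MulAut.conjNormal (1 : X) (Additive.toMul v)) = v
        rw [map_one]; rfl
      mul_smul := fun x y v => by
        show Additive.ofMul (MulAut.conjNormal (x * y) (Additive.toMul v)) =
          Additive.ofMul (MulAut.conjNormal x (MulAut.conjNormal y (Additive.toMul v)))
        rw [map_mul]; rfl
      smul_zero := fun x => by
        show Additive.ofMul (MulAut.conjNormal x (1 : ↥V)) = Additive.ofMul (1 : ↥V)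
        rw [map_one]
      smul_add := fun x a b => congrArg Additive.ofMul (map_mul (MulAut.conjNormal x) (Additive.toMul a) (Additive.toMul b)) }
  have hsm : ∀ (x : X) (v : Additive ↥V), (((Additive.toMul (x • v) : ↥V)) : X) = x * (Additive.toMul v : ↥V) * x⁻¹ :=
    fun x v => MulAut.conjNormal_apply x _
  have hfixiff : ∀ (x : X) (v : Additive ↥V), x • v = v ↔ x * (Additive.toMul v : ↥V) = (Additive.toMul v : ↥V) * x := by
    intro x v
    rw [← Additive.toMul.injective.eq_iff, Subtype.ext_iff, hsm, mul_inv_eq_iff_eq_mul]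
  have h2 : ∀ v : Additive ↥V, v + v = 0 := fun v => congrArg Additive.ofMul (Subtype.ext (by
    show ((Additive.toMul v : ↥V) : X) * (Additive.toMul v : ↥V) = 1
    rw [← pow_two]; exact hV2 _ (Additive.toMul v).2) : Additive.toMul v * Additive.toMul v = 1)
  have hU : ∀ h ∈ (⊤ : Subgroup X), ∀ u ∈ (⊤ : AddSubgroup (Additive ↥V)), h • u ∈ (⊤ : AddSubgroup (Additive ↥V)) :=
    fun _ _ _ _ => AddSubgroup.mem_top _
  set f := resHom (⊤ : Subgroup X) (⊤ : AddSubgroup (Additive ↥V)) hU with hf
  have hVp : IsPGroup 2 V := fun v => ⟨1, Subtype.ext (by rw [pow_one]; exact hV2 v v.2)⟩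
  have hS3 : ¬ Cfsg.Involves (Equiv.Perm (Fin 3)) ↥f.range := by
    have h := SFourLocal.not_three_range hfree hVp (f.comp Subgroup.topEquiv.symm.toMonoidHom) (fun x hx => by
      refine MonoidHom.mem_ker.2 (Equiv.ext fun v => Subtype.ext ?_)
      show x • (v : Additive ↥V) = v
      exact (hfixiff x _).2 ((Subgroup.mem_centralizer_iff.1 hx) _ (Additive.toMul (v : Additive ↥V)).2).symm)
    rwa [MonoidHom.range_comp, MonoidHom.range_eq_top.2 Subgroup.topEquiv.symm.surjective, ← MonoidHom.range_eq_map] at h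
  have hmap : (((T.subtype le_top : Sylow 2 ↥(⊤ : Subgroup X)) : Subgroup ↥(⊤ : Subgroup X)).map
      (⊤ : Subgroup X).subtype) = (T : Subgroup X) := by
    rw [Sylow.coe_subtype, Subgroup.subgroupOf_map_subtype, inf_top_eq]
  have hP := Goal.apply (goal_all _) h2 ⊤ ⊤ hU hS3 (T.subtype le_top) (fixP (T : Subgroup X)) le_top
    (by rw [hmap]; intro t ht w hw; rw [hw t ht]; exact hw)
    (by rw [hmap]; exact pr_of_le_fixer (le_fixer_iff.2 le_rfl))
    (fun U' hWU hinv => by
      let E : Subgroup X :=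
        { carrier := {x | ∃ hx : x ∈ V, Additive.ofMul (⟨x, hx⟩ : ↥V) ∈ U'}
          one_mem' := ⟨one_mem V, U'.zero_mem⟩
          mul_mem' := fun {a b} ⟨ha, ha'⟩ ⟨hb, hb'⟩ => ⟨mul_mem ha hb, U'.add_mem ha' hb'⟩
          inv_mem' := fun {a} ⟨ha, ha'⟩ => ⟨inv_mem ha, U'.neg_mem ha'⟩ }
      have hVE : V ≤ E := hgen.trans ((Subgroup.closure_le _).2 (by
        rintro _ ⟨x, z, hz, rfl⟩
        refine ⟨Subgroup.Normal.conj_mem inferInstance z (hZV hz) x, ?_⟩
        have hzU : Additive.ofMul (⟨z, hZV hz⟩ : ↥V) ∈ U' :=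
          hWU fun t ht => (hfixiff t _).2 (hZT z hz t ht)
        have := hinv x (Subgroup.mem_top x) _ hzU
        rwa [show x • Additive.ofMul (⟨z, hZV hz⟩ : ↥V) =
          Additive.ofMul (⟨x * z * x⁻¹, Subgroup.Normal.conj_mem inferInstance z (hZV hz) x⟩ : ↥V) from
            congrArg Additive.ofMul (Subtype.ext (hsm x _))] at this))
      intro v _
      obtain ⟨_, h⟩ := hVE (Additive.toMul v).2
      exact h)
    le_rfl
  rw [hmap] at hP
  have hfixer : (fixer (⊤ : AddSubgroup (Additive ↥V)) : Subgroup X) = Subgroup.centralizer (V : Set X) := by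
    ext x
    rw [mem_fixer, Subgroup.mem_centralizer_iff]
    exact ⟨fun h v hv => ((hfixiff x (Additive.ofMul ⟨v, hv⟩)).1 (h _ (AddSubgroup.mem_top _))).symm,
      fun h v _ => (hfixiff x v).2 (h _ (Additive.toMul v).2).symm⟩
  have h0 := hP R hRT (fun r hr => by rw [hfixer]; exact hR r hr) (by rw [hfixer]; exact hn)
  rw [hfixer, top_inf_eq, AddSubgroup.card_top] at h0
  have e : Nat.card (fixP R : AddSubgroup (Additive ↥V)) = Nat.card ↥(V ⊓ Subgroup.centralizer (R : Set X)) :=
    Nat.card_congr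
      { toFun := fun v => ⟨(Additive.toMul (v : Additive ↥V) : ↥V), (Additive.toMul (v : Additive ↥V)).2,
          fun r hr => (hfixiff r _).1 (v.2 r hr)⟩
        invFun := fun x => ⟨Additive.ofMul ⟨(x : X), x.2.1⟩,
          fun r hr => (hfixiff r _).2 (Subgroup.mem_centralizer_iff.1 x.2.2 r hr)⟩
        left_inv := fun v => rfl
        right_inv := fun x => rfl }
  rw [e] at h0
  exact h0

/-- The normal closure of the involutions of the centre of a Sylow subgroup lies in the centre of the core. -/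
theorem omZ_closure_le (hchar : Subgroup.centralizer (Cfsg.pCore 2 X : Set X) ≤ Cfsg.pCore 2 X) (T : Sylow 2 X) :
    Subgroup.normalClosure (omZ (T : Subgroup X) : Set X) ≤
      Cfsg.pCore 2 X ⊓ Subgroup.centralizer (Cfsg.pCore 2 X : Set X) := by
  refine Subgroup.normalClosure_le_normal fun z hz => ?_
  have h1 : z ∈ Subgroup.centralizer (Cfsg.pCore 2 X : Set X) :=
    Subgroup.mem_centralizer_iff.2 fun o ho => hz.2.2 o (Cores.pCore_le_sylow T ho)
  exact ⟨hchar h1, h1⟩

theorem omZ_closure_elem (hchar : Subgroup.centralizer (Cfsg.pCore 2 X : Set X) ≤ Cfsg.pCore 2 X) (T : Sylow 2 X) :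
    Cfsg.IsElementaryAbelian 2 (Subgroup.normalClosure (omZ (T : Subgroup X) : Set X)) := by
  set V := Subgroup.normalClosure (omZ (T : Subgroup X) : Set X) with hV
  have hVc : ∀ a ∈ V, ∀ b ∈ V, a * b = b * a := fun a ha b hb =>
    Subgroup.mem_centralizer_iff.1 (omZ_closure_le hchar T hb).2 a (omZ_closure_le hchar T ha).1
  let E : Subgroup X :=
    { carrier := {a | a ∈ V ∧ a * a = 1}
      one_mem' := ⟨one_mem _, one_mul 1⟩
      mul_mem' := fun {a b} ha hb => ⟨mul_mem ha.1 hb.1, by
        rw [show a * b * (a * b) = a * (b * a) * b by group, hVc b hb.1 a ha.1,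
          show a * (a * b) * b = (a * a) * (b * b) by group, ha.2, hb.2, one_mul]⟩
      inv_mem' := fun {a} ha => ⟨inv_mem ha.1, by rw [← mul_inv_rev, ha.2, inv_one]⟩ }
  refine LocalEven2.isElementaryAbelian_iff.2 ⟨hVc, fun a ha => ?_⟩
  have hVE : V ≤ E := (Subgroup.closure_le _).2 (by
    intro v hv
    obtain ⟨z, hz, hzv⟩ := Group.mem_conjugatesOfSet_iff.1 hv
    obtain ⟨c, rfl⟩ := isConj_iff.1 hzv
    refine ⟨Subgroup.subset_closure hv, ?_⟩
    rw [show c * z * c⁻¹ * (c * z * c⁻¹) = c * (z * z) * c⁻¹ by group, hz.2.1, mul_one, mul_inv_cancel])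
  rw [pow_two]
  exact (hVE ha).2

theorem omZ_gen (T : Subgroup X) :
    Subgroup.normalClosure (omZ T : Set X) ≤ Subgroup.closure {v | ∃ x, ∃ z ∈ (omZ T : Set X), v = x * z * x⁻¹} := by
  refine (Subgroup.closure_le _).2 ?_
  intro v hv
  obtain ⟨z, hz, hzv⟩ := Group.mem_conjugatesOfSet_iff.1 hv
  obtain ⟨c, rfl⟩ := isConj_iff.1 hzv
  exact Subgroup.subset_closure ⟨c, z, hz, rfl⟩

/-- The Thompson subgroup centralises that closure. -/
theorem thompson_le_centralizer (hfree : ¬ Cfsg.Involves (Equiv.Perm (Fin 4)) X)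
    (hchar : Subgroup.centralizer (Cfsg.pCore 2 X : Set X) ≤ Cfsg.pCore 2 X) (T : Sylow 2 X) :
    Cfsg.thompsonSubgroupOf 2 (T : Subgroup X) ≤
      Subgroup.centralizer (Subgroup.normalClosure (omZ (T : Subgroup X) : Set X) : Set X) := by
  classical
  set V := Subgroup.normalClosure (omZ (T : Subgroup X) : Set X) with hV
  have hVe := omZ_closure_elem hchar T
  set C := Subgroup.centralizer (V : Set X) with hC
  refine LocalEven2.thompsonSubgroupOf_le_of fun A hA => ?_
  obtain ⟨hAc, hA2⟩ := LocalEven2.isElementaryAbelian_iff.1 hA.2.1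
  by_contra hn
  have hb := no_offender hfree T hVe (omZ (T : Subgroup X) : Set X) Subgroup.subset_normalClosure
    (fun z hz => hz.2.2) (omZ_gen _) A hA.1 (fun r hr => by rw [← pow_two, hA2 r hr]; exact one_mem _) hn
  set CA := Subgroup.centralizer (A : Set X) with hCA
  set B := (A ⊓ C) ⊔ V with hB
  have hBT : B ≤ (T : Subgroup X) :=
    sup_le (inf_le_left.trans hA.1) (((omZ_closure_le hchar T).trans inf_le_left).trans (Cores.pCore_le_sylow T))
  have hBe : Cfsg.IsElementaryAbelian 2 B := SFourLocal.elem_sup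
    (LocalEven2.isElementaryAbelian_iff.2 ⟨fun a ha b hb => hAc a ha.1 b hb.1, fun a ha => hA2 a ha.1⟩)
    hVe fun a ha v hv => (Subgroup.mem_centralizer_iff.1 ha.2 v hv).symm
  have h1 := hA.2.2 B hBT hBe
  have h2 := Cores.card_sup_mul_card_inf (A ⊓ C) V
  rw [← hB] at h2
  have h3 : Nat.card ↥(A ⊓ C ⊓ V) ≤ Nat.card ↥(V ⊓ CA) := Subgroup.card_le_of_le fun x hx =>
    ⟨hx.2, Subgroup.mem_centralizer_iff.2 fun y hy => hAc y hy x hx.1.1⟩
  have hcA : Nat.card A = Nat.card ↥(A ⊓ C) * C.relIndex A := by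
    rw [← Subgroup.inf_relIndex_left A C, ← Subgroup.relIndex_bot_left, ← Subgroup.relIndex_bot_left,
      Subgroup.relIndex_mul_relIndex _ _ _ bot_le inf_le_left]
  refine absurd h1 (not_le.2 ?_)
  refine Nat.lt_of_mul_lt_mul_right (a := Nat.card ↥(V ⊓ CA)) ?_
  calc Nat.card A * Nat.card ↥(V ⊓ CA) = Nat.card ↥(A ⊓ C) * (C.relIndex A * Nat.card ↥(V ⊓ CA)) := by
        rw [hcA]; ring
    _ < Nat.card ↥(A ⊓ C) * Nat.card V := Nat.mul_lt_mul_of_pos_left hb Nat.card_pos
    _ = Nat.card B * Nat.card ↥(A ⊓ C ⊓ V) := h2.symm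
    _ ≤ _ := Nat.mul_le_mul_left _ h3

/-- The Frattini argument with a subgroup of the Sylow subgroup determined between it and that Sylow subgroup. -/
theorem exists_mul_of_le (T : Sylow 2 X) (N : Subgroup X) [N.Normal] (J : Subgroup X)
    (hJ : Subgroup.normalizer (((T : Subgroup X) ⊓ N : Subgroup X) : Set X) ≤ Subgroup.normalizer (J : Set X))
    (g : X) : ∃ c ∈ N, ∃ n ∈ Subgroup.normalizer (J : Set X), g = c * n := by
  have hST : ((T.subtype le_top : Sylow 2 ↥(⊤ : Subgroup X)) : Subgroup ↥(⊤ : Subgroup X)).map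
      (⊤ : Subgroup X).subtype = (T : Subgroup X) := by
    rw [Sylow.coe_subtype, Subgroup.subgroupOf_map_subtype, inf_top_eq]
  obtain ⟨e, he, hex⟩ := exists_frattini ⊤ N le_top
    (fun k _ => by rintro _ ⟨z, hz, rfl⟩; exact Subgroup.Normal.conj_mem inferInstance z hz k)
    (T.subtype le_top) (Subgroup.mem_top g)
  rw [hST] at hex
  refine ⟨e⁻¹, inv_mem he, e * g, hJ (Subgroup.mem_normalizer_iff.2 fun t => ?_), by rw [inv_mul_cancel_left]⟩
  conv_rhs => rw [← hex, mem_cj]
  simp [mul_assoc]

/-- The centraliser of the involutions of the centre of a Sylow subgroup centralises that centre. -/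
theorem centralizer_omZ_le (hchar : Subgroup.centralizer (Cfsg.pCore 2 X : Set X) ≤ Cfsg.pCore 2 X) (T : Sylow 2 X) :
    Subgroup.centralizer (omZ (T : Subgroup X) : Set X) ≤
      Subgroup.centralizer (((T : Subgroup X) ⊓ Subgroup.centralizer ((T : Subgroup X) : Set X) : Subgroup X) : Set X) := by
  classical
  haveI : Fact (Nat.Prime 2) := ⟨Nat.prime_two⟩
  set O := Cfsg.pCore 2 X with hO
  set ZO := O ⊓ Subgroup.centralizer (O : Set X) with hZOdef
  haveI : ZO.Normal := by rw [hZOdef, hO]; infer_instance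
  letI : CommGroup ↥ZO :=
    { ZO.toGroup with mul_comm := fun a b => Subtype.ext (Subgroup.mem_centralizer_iff.1 b.2.2 a a.2.1) }
  have hZO : (T : Subgroup X) ⊓ Subgroup.centralizer ((T : Subgroup X) : Set X) ≤ ZO := fun z hz => by
    have h1 : z ∈ Subgroup.centralizer (O : Set X) :=
      Subgroup.mem_centralizer_iff.2 fun o ho => Subgroup.mem_centralizer_iff.1 hz.2 o (Cores.pCore_le_sylow T ho)
    exact ⟨hchar h1, h1⟩
  set H := Subgroup.centralizer (omZ (T : Subgroup X) : Set X) with hH
  have hTH : (T : Subgroup X) ≤ H := fun t ht => Subgroup.mem_centralizer_iff.2 fun z hz => (hz.2.2 t ht).symm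
  intro h hh
  refine Subgroup.mem_centralizer_iff.2 fun z hz => ?_
  have key : ∀ k, ∀ z ∈ (T : Subgroup X) ⊓ Subgroup.centralizer ((T : Subgroup X) : Set X), z ^ 2 ^ k = 1 →
      ∀ h ∈ H, h * z = z * h := by
    intro k
    induction k with
    | zero => intro z _ hz1 h _; rw [pow_zero, pow_one] at hz1; rw [hz1, mul_one, one_mul]
    | succ k ih =>
      intro z hz hzk
      have hu := ih (z * z) (mul_mem hz hz) (by rw [← pow_two, ← pow_mul, ← pow_succ']; exact hzk)
      haveI : Fintype (↥H ⧸ (T : Subgroup X).subgroupOf H) := Fintype.ofFinite _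
      let f : ↥H ⧸ (T : Subgroup X).subgroupOf H → ↥ZO := fun q => Quotient.liftOn' q
        (fun x : ↥H => (⟨(x : X) * z * (x : X)⁻¹, Subgroup.Normal.conj_mem inferInstance z (hZO hz) x⟩ : ↥ZO))
        (fun a b hab => by
          rw [QuotientGroup.leftRel_apply] at hab
          have hc : ((a : X)⁻¹ * b) * z = z * ((a : X)⁻¹ * b) := Subgroup.mem_centralizer_iff.1 hz.2 _ hab
          refine Subtype.ext ?_
          show (a : X) * z * (a : X)⁻¹ = (b : X) * z * (b : X)⁻¹
          calc (a : X) * z * (a : X)⁻¹ = (a : X) * (z * ((a : X)⁻¹ * b)) * (b : X)⁻¹ := by group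
            _ = _ := by rw [← hc]; group)
      set P := ∏ q, f q with hP
      have hPh : ∀ x : ↥H, (x : X) * (P : X) * (x : X)⁻¹ = P := by
        intro x
        have h1 : MulAut.conjNormal (x : X) P = P := by
          rw [hP, map_prod]
          refine Fintype.prod_equiv (MulAction.toPerm x) _ _ fun q => ?_
          induction q using Quotient.inductionOn' with
          | _ a =>
            refine Subtype.ext ?_
            rw [MulAut.conjNormal_apply]
            show (x : X) * ((a : X) * z * (a : X)⁻¹) * (x : X)⁻¹ = (x * a : ↥H) * z * ((x * a : ↥H) : X)⁻¹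
            rw [Subgroup.coe_mul]; group
        rw [← MulAut.conjNormal_apply, h1]
      set n := Fintype.card (↥H ⧸ (T : Subgroup X).subgroupOf H) with hn
      have hP2 : (P : X) * P = (z * z) ^ n := by
        have h1 : P * P = (⟨z * z, hZO (mul_mem hz hz)⟩ : ↥ZO) ^ n := by
          rw [hP, ← Finset.prod_mul_distrib, hn, ← Finset.card_univ, ← Finset.prod_const]
          refine Finset.prod_congr rfl fun q _ => ?_
          induction q using Quotient.inductionOn' with
          | _ a =>
            refine Subtype.ext ?_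
            show (a : X) * z * (a : X)⁻¹ * ((a : X) * z * (a : X)⁻¹) = z * z
            calc _ = (a : X) * (z * z) * (a : X)⁻¹ := by group
              _ = _ := by rw [hu a a.2, mul_inv_cancel_right]
        simpa using congrArg Subtype.val h1
      set w := z ^ n * (P : X)⁻¹ with hw
      have hwO : w ∈ ZO := mul_mem (pow_mem (hZO hz) n) (inv_mem P.2)
      have hcm : Commute (z ^ n) (P : X)⁻¹ :=
        congrArg Subtype.val (mul_comm (⟨z ^ n, pow_mem (hZO hz) n⟩ : ↥ZO) P⁻¹)
      have hwZ : w ∈ omZ (T : Subgroup X) := by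
        refine ⟨Cores.pCore_le_sylow T hwO.1, ?_, fun t ht => ?_⟩
        · rw [← pow_two, hw, hcm.mul_pow, inv_pow, pow_two (P : X), hP2, ← pow_mul, mul_comm n 2, pow_mul,
            pow_two z, mul_inv_cancel]
        · have h1 : t * (P : X) = P * t := mul_inv_eq_iff_eq_mul.1 (hPh ⟨t, hTH ht⟩)
          have h3 : Commute t z := Subgroup.mem_centralizer_iff.1 hz.2 t ht
          exact ((h3.pow_right n).mul_right (show Commute t (P : X) from h1).inv_right).eq
      intro h hh
      have h1 : Commute h w := (Subgroup.mem_centralizer_iff.1 hh w hwZ).symm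
      have h3 : Commute h (P : X) := mul_inv_eq_iff_eq_mul.1 (hPh ⟨h, hh⟩)
      have h4 : Commute h (z ^ n) := by
        have e : z ^ n = w * P := by rw [hw, inv_mul_cancel_right]
        rw [e]; exact h1.mul_right h3
      have hodd : Odd n := by
        rw [hn, ← Nat.card_eq_fintype_card]
        have hd : ((T : Subgroup X).subgroupOf H).index ∣ (T : Subgroup X).index :=
          Subgroup.relIndex_dvd_index_of_le hTH
        exact Odd.of_dvd_nat (Nat.odd_iff.2 (Nat.two_dvd_ne_zero.1 T.not_dvd_index)) hd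
      have hcop : (orderOf z).Coprime n := by
        obtain ⟨j, -, hj⟩ := (Nat.dvd_prime_pow Nat.prime_two).1 (orderOf_dvd_of_pow_eq_one hzk)
        rw [hj]
        exact ((Nat.coprime_two_left.2 hodd).pow_left j)
      obtain ⟨m, hm⟩ := exists_pow_eq_self_of_coprime hcop.symm
      rw [← hm]
      exact (h4.pow_right m).eq
  obtain ⟨k, hk⟩ := T.isPGroup' ⟨z, hz.1⟩
  exact (key k z hz (congrArg Subtype.val hk) h hh).symm

/-- The factorisation. -/
theorem factor (hfree : ¬ Cfsg.Involves (Equiv.Perm (Fin 4)) X)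
    (hchar : Subgroup.centralizer (Cfsg.pCore 2 X : Set X) ≤ Cfsg.pCore 2 X) (T : Sylow 2 X) (g : X) :
    ∃ c ∈ Subgroup.centralizer (((T : Subgroup X) ⊓ Subgroup.centralizer ((T : Subgroup X) : Set X) : Subgroup X) : Set X),
      ∃ n ∈ Subgroup.normalizer (Cfsg.thompsonSubgroupOf 2 (T : Subgroup X) : Set X), g = c * n := by
  haveI : (Subgroup.centralizer (Subgroup.normalClosure (omZ (T : Subgroup X) : Set X) : Set X)).Normal :=
    Subgroup.normal_centralizer
  obtain ⟨c, hc, n, hn, e⟩ := exists_mul_of_le T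
    (Subgroup.centralizer (Subgroup.normalClosure (omZ (T : Subgroup X) : Set X) : Set X))
    (Cfsg.thompsonSubgroupOf 2 (T : Subgroup X)) ((LocalEven2.normalizer_le_normalizer_thompson 2 _).trans
      (le_of_eq (by rw [LocalEven2.thompsonSubgroupOf_eq_of_between
        (le_inf (LocalEven2.thompsonSubgroupOf_le 2 _) (thompson_le_centralizer hfree hchar T)) inf_le_left]))) g
  exact ⟨c, centralizer_omZ_le hchar T (Subgroup.centralizer_le Subgroup.subset_normalClosure hc), n, hn, e⟩

end Cfsg.Agent.Lib.SFourGeneral
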