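import Cfsg.Agent.Lib.SFourGeneral.Dual
import Cfsg.Agent.Lib.SFourLocal.Module

/-!
A group without a section isomorphic to the symmetric group of degree three has no offenders on a module
generated by the translates of a subspace without offenders.
-/

set_option autoImplicit false
set_option linter.unusedSectionVars false
set_option linter.style.haveILetI false
set_option maxHeartbeats 1000000

namespace Cfsg.Agent.Lib.SFourGeneral

universe v

variable {G V : Type v} [Group G] [AddCommGroup V] [DistribMulAction G V]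

/-- The weight of a subgroup. -/
noncomputable def mu (A : Subgroup G) : ℕ := Nat.card A * Nat.card (fixP A : AddSubgroup V)

/-- Elementary abelian subgroups. -/
def EA (A : Subgroup G) : Prop := ∀ a ∈ A, a * a = 1

/-- The subgroups of largest weight. -/
def IsSig (V : Type v) [AddCommGroup V] [DistribMulAction G V] (A : Subgroup G) : Prop :=
  EA A ∧ A ≠ ⊥ ∧ ∀ B : Subgroup G, EA B → mu (V := V) B ≤ mu (V := V) A

theorem EA.isPGroup {A : Subgroup G} (h : EA A) : IsPGroup 2 A :=
  fun a => ⟨1, Subtype.ext (by rw [pow_one, pow_two]; exact h a a.2)⟩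

theorem EA.comm {A : Subgroup G} (h : EA A) {a b : G} (ha : a ∈ A) (hb : b ∈ A) : a * b = b * a := by
  calc a * b = (a * b)⁻¹ := (inv_eq_of_mul_eq_one_right (h _ (mul_mem ha hb))).symm
    _ = b * a := by
      rw [mul_inv_rev, inv_eq_of_mul_eq_one_right (h a ha), inv_eq_of_mul_eq_one_right (h b hb)]

theorem ea_cj {A : Subgroup G} (h : EA A) (g : G) : EA (cj g A) := by
  rintro _ ⟨a, ha, rfl⟩
  show MulAut.conj g a * MulAut.conj g a = 1
  rw [← map_mul, h a ha, map_one]

theorem mu_cj [Finite V] (A : Subgroup G) (g : G) : mu (V := V) (cj g A) = mu (V := V) A := by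
  rw [mu, mu, card_cj, fixP_cj, card_mv]

theorem IsSig.conj [Finite V] {A : Subgroup G} (h : IsSig V A) (g : G) : IsSig V (cj g A) := by
  refine ⟨ea_cj h.1 g, fun h' => h.2.1 ?_, fun B hB => by rw [mu_cj]; exact h.2.2 B hB⟩
  rw [eq_bot_iff]
  intro a ha
  have := conj_mem_cj (g := g) ha
  rw [h', Subgroup.mem_bot] at this
  exact Subgroup.mem_bot.2 (conj_eq_one_iff.1 this)

variable [Finite G] [Finite V] [FaithfulSMul G V]

theorem card_le_card_space (U : AddSubgroup V) : Nat.card U ≤ Nat.card V :=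
  Nat.card_le_card_of_injective (fun u : U => (u : V)) Subtype.val_injective

/-- Invariance under a generating pair. -/
theorem inv_of_gen {A B : Subgroup G} (hgen : A ⊔ B = ⊤) {U : AddSubgroup V}
    (hA : ∀ a ∈ A, ∀ v ∈ U, a • v ∈ U) (hB : ∀ b ∈ B, ∀ v ∈ U, b • v ∈ U) :
    ∀ x : G, ∀ v ∈ U, x • v ∈ U := by
  let T : Subgroup G :=
    { carrier := {x | mv x U = U}
      one_mem' := mv_one U
      mul_mem' := fun {a b} (ha : mv a U = U) (hb : mv b U = U) => show mv (a * b) U = U by rw [mv_mul, hb, ha]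
      inv_mem' := fun {a} (ha : mv a U = U) => show mv a⁻¹ U = U by
        nth_rewrite 1 [← ha]
        rw [← mv_mul, inv_mul_cancel, mv_one] }
  have hle : ∀ C : Subgroup G, (∀ c ∈ C, ∀ v ∈ U, c • v ∈ U) → C ≤ T := fun C hC c hc =>
    AddSubgroup.eq_of_le_of_card_ge (by rintro _ ⟨v, hv, rfl⟩; exact hC c hc v hv) (le_of_eq (card_mv c U).symm)
  intro x v hv
  have hx : mv x U = U := (sup_le (hle A hA) (hle B hB) : A ⊔ B ≤ T) (hgen ▸ Subgroup.mem_top x)
  exact hx ▸ smul_mem_mv hv

theorem card_le_mu {A : Subgroup G} (h : IsSig V A) : Nat.card V ≤ mu (V := V) A := by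
  refine le_trans (le_of_eq ?_) (h.2.2 ⊥ fun a ha => by rw [Subgroup.mem_bot] at ha; rw [ha, one_mul])
  have : (fixP (⊥ : Subgroup G) : AddSubgroup V) = ⊤ := eq_top_iff.2 fun v _ r hr => by
    rw [Subgroup.mem_bot] at hr; rw [hr, one_smul]
  rw [mu, Subgroup.card_bot, one_mul, this, AddSubgroup.card_top]

/-- A member of largest weight induces an offender or nothing on every subspace. -/
theorem IsSig.le_fixer {A T : Subgroup G} (h : IsSig V A) (hAT : A ≤ T) {U : AddSubgroup V} (hP : Pr T U) :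
    A ≤ fixer U := by
  by_contra hn
  have h0 := hP A hAT (fun a ha => by rw [h.1 a ha]; exact one_mem _) hn
  set B := fixer U ⊓ A with hB
  have hmu := h.2.2 B fun a ha => h.1 a ha.2
  have hsub : U ⊔ fixP A ≤ (fixP B : AddSubgroup V) :=
    sup_le (fun u hu r hr => hr.1 u hu) (fixP_mono inf_le_right)
  have h1 := card_add_sup_inf U (fixP A : AddSubgroup V)
  have h2 : Nat.card A = (fixer U).relIndex A * Nat.card B := by
    have h3 := Subgroup.relIndex_mul_relIndex ⊥ B A bot_le inf_le_right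
    rw [Subgroup.relIndex_bot_left, Subgroup.relIndex_bot_left, hB, Subgroup.inf_relIndex_right] at h3
    rw [← h3, mul_comm]
  refine absurd ?_ (not_le.2 h0)
  refine Nat.le_of_mul_le_mul_left ?_ (Nat.mul_pos (Nat.card_pos (α := ↥B)) (Nat.card_pos (α := ↥(fixP A : AddSubgroup V))))
  calc Nat.card B * Nat.card (fixP A : AddSubgroup V) * Nat.card U
      = Nat.card B * (Nat.card ↥(U ⊔ fixP A) * Nat.card ↥(U ⊓ fixP A)) := by rw [h1]; ring
    _ ≤ Nat.card B * (Nat.card (fixP B : AddSubgroup V) * Nat.card ↥(U ⊓ fixP A)) :=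
        Nat.mul_le_mul_left _ (Nat.mul_le_mul_right _ (AddSubgroup.card_le_of_le hsub))
    _ = mu (V := V) B * Nat.card ↥(U ⊓ fixP A) := by rw [mu]; ring
    _ ≤ mu (V := V) A * Nat.card ↥(U ⊓ fixP A) := Nat.mul_le_mul_right _ hmu
    _ = _ := by rw [mu, h2]; ring

/-- The standing assumptions of the induction step, with `W` of largest possible size. -/
structure Ctx (n : ℕ) (S : Sylow 2 G) (W : AddSubgroup V) (M : Subgroup G) : Prop where
  ih : ∀ m < n, Goal.{v} m
  le : Nat.card G + Nat.card V ≤ n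
  two : ∀ v : V, v + v = 0
  free : ¬ Cfsg.Involves (Equiv.Perm (Fin 3)) G
  inv : ∀ s ∈ (S : Subgroup G), ∀ w ∈ W, s • w ∈ W
  pr : Pr (S : Subgroup G) W
  span : ∀ U : AddSubgroup V, W ≤ U → (∀ g : G, ∀ v ∈ U, g • v ∈ U) → U = ⊤
  mem : ∀ g : G, g ∈ M ↔ mv g W = W
  top : M ≠ ⊤
  max : ∀ H : Subgroup G, (S : Subgroup G) ≤ H → H ≠ ⊤ → H ≤ M

variable {n : ℕ} {S : Sylow 2 G} {W : AddSubgroup V} {M : Subgroup G}

theorem Ctx.le_M (c : Ctx n S W M) : (S : Subgroup G) ≤ M := by
  refine c.max _ le_rfl fun h => c.top (eq_top_iff.2 fun g _ => (c.mem g).2 ?_)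
  refine le_antisymm ?_ fun w hw => mem_mv.2 (c.inv _ (h ▸ Subgroup.mem_top _) w hw)
  rintro _ ⟨w, hw, rfl⟩
  exact c.inv g (h ▸ Subgroup.mem_top g) w hw

theorem Ctx.mem_of_fixer (c : Ctx n S W M) {k z : G} (hz : z ∈ fixer (mv k W)) : k⁻¹ * z * k ∈ M := by
  rw [fixer_mv, mem_cj] at hz
  refine (c.mem _).2 (le_antisymm ?_ fun w hw => mem_mv.2 (by rw [inv_mem hz w hw]; exact hw))
  rintro _ ⟨w, hw, rfl⟩
  show (k⁻¹ * z * k) • w ∈ W
  rw [hz w hw]; exact hw

theorem Ctx.pr_core (c : Ctx n S W M) : Pr (Cfsg.pCore 2 G) (⊤ : AddSubgroup V) := by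
  have hQ : ∀ g : G, Pr (Cfsg.pCore 2 G) (mv g W) := fun g => (c.pr.conj g).mono (fun q hq => by
    rw [mem_cj]
    refine Cores.pCore_le_sylow S ?_
    simpa [mul_assoc] using (inferInstance : (Cfsg.pCore 2 G).Normal).conj_mem q hq g⁻¹)
  rw [show (⊤ : AddSubgroup V) = ⨆ g : G, mv g W from
    (c.span _ ((le_of_eq (mv_one W).symm).trans (le_iSup (fun g : G => mv g W) 1)) fun x v hv => ?_).symm]
  · exact Pr.iSup hQ
  · have h1 : mv x (⨆ g : G, mv g W) ≤ ⨆ g : G, mv g W := by
      conv_lhs => rw [mv, AddSubgroup.map_iSup]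
      refine iSup_le fun g => ?_
      rw [show (mv g W).map (DistribSMul.toAddMonoidHom V x) = mv (x * g) W from (mv_mul x g W).symm]
      exact le_iSup (fun g : G => mv g W) (x * g)
    exact h1 (smul_mem_mv hv)

theorem IsSig.not_le_core {A : Subgroup G} (h : IsSig V A) (c : Ctx n S W M) : ¬ A ≤ Cfsg.pCore 2 G :=
  fun hA => h.2.1 (eq_bot_iff.2 (fixer_top (G := G) (V := V) ▸ h.le_fixer hA c.pr_core))

/-- Members inside a proper subgroup fix the corresponding translate. -/
theorem Ctx.fix_proper (c : Ctx n S W M) {K : Subgroup G} (hK : K ≠ ⊤) (T : Sylow 2 K) {k : G}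
    (hT : (T : Subgroup K).map K.subtype ≤ cj k (S : Subgroup G)) {A : Subgroup G} (hA : IsSig V A) (hAK : A ≤ K) :
    A ≤ fixer (mv k W) := by
  set U := clo K (mv k W) with hUdef
  have hU : ∀ h ∈ K, ∀ u ∈ U, h • u ∈ U := fun h hh u hu => smul_mem_clo hh hu
  have hlt : Nat.card ↥(resHom K U hU).range + Nat.card U < n := by
    have h1 : Nat.card ↥(resHom K U hU).range ≤ Nat.card K :=
      Nat.card_le_card_of_surjective _ (MonoidHom.rangeRestrict_surjective _)
    have h2 : Nat.card K < Nat.card G := lt_of_le_of_ne (Subgroup.card_le_card_group K) fun h =>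
      hK (Subgroup.eq_top_of_card_eq K h)
    have h3 : Nat.card U ≤ Nat.card V := card_le_card_space U
    have := c.le
    omega
  have hP := Goal.apply (c.ih _ hlt) c.two K U hU (not_involves_resHom c.free _ _ _) T (mv k W) (le_clo K _)
    (by
      intro t ht w hw
      have ht' := mem_cj.1 (hT ht)
      rw [mem_mv] at hw ⊢
      have := c.inv _ ht' _ hw
      rwa [mul_smul, mul_smul, smul_inv_smul] at this)
    ((c.pr.conj k).mono hT) (fun U' hW hinv => clo_le hW hinv) le_rfl
  obtain ⟨x, hx, hxA⟩ := exists_cj_le K T hA.1.isPGroup hAK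
  have hfix := (hA.conj x).le_fixer hxA hP
  have hU' : A ≤ fixer U := fun a ha u hu => ?_
  · exact hU'.trans (fixer_mono (le_clo K (mv k W)))
  have h1 := hfix (conj_mem_cj ha) (x • u) (hU x hx u hu)
  rw [mul_smul, mul_smul, inv_smul_smul] at h1
  exact MulAction.injective x h1

theorem Ctx.exists_le (S : Sylow 2 G) {K : Subgroup G} (T : Sylow 2 K) :
    ∃ k : G, (T : Subgroup K).map K.subtype ≤ cj k (S : Subgroup G) :=
  exists_cj_le_sylow S (T.isPGroup'.map _)

theorem sSup_ne_normal (c : Ctx n S W M) {J : Subgroup G} {A : Subgroup G} (hA : IsSig V A) (hAJ : A ≤ J)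
    (hJ : IsPGroup 2 J) : Subgroup.normalizer (J : Set G) ≠ ⊤ := fun h =>
  hA.not_le_core c (hAJ.trans (Cores.le_pCore (Subgroup.normalizer_eq_top_iff.1 h) hJ))

theorem Ctx.mem_of_cj_eq (c : Ctx n S W M) {g h : G} (he : cj g (S : Subgroup G) = cj h (S : Subgroup G))
    {A : Subgroup G} (hA : IsSig V A) (hAS : A ≤ cj g (S : Subgroup G)) : g⁻¹ * h ∈ M := by
  refine c.max (Subgroup.normalizer ((S : Subgroup G) : Set G)) Subgroup.le_normalizer
    (sSup_ne_normal c (hA.conj g⁻¹) (by rw [cj_le_iff, inv_inv]; exact hAS) S.isPGroup') ?_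
  rw [Subgroup.mem_normalizer_iff]
  intro x
  have : g⁻¹ * h * x * (g⁻¹ * h)⁻¹ ∈ (S : Subgroup G) ↔ h * x * h⁻¹ ∈ cj g (S : Subgroup G) := by
    rw [mem_cj, show g⁻¹ * (h * x * h⁻¹) * g = g⁻¹ * h * x * (g⁻¹ * h)⁻¹ by group]
  rw [this, he, mem_cj, show h⁻¹ * (h * x * h⁻¹) * h = x by group]

/-- Two Sylow subgroups sharing a member belong to the same coset of `M`. -/
theorem Ctx.coset (c : Ctx n S W M) {A : Subgroup G} {g h : G} (hA : IsSig V A)
    (hg : A ≤ cj g (S : Subgroup G)) (hh : A ≤ cj h (S : Subgroup G)) : g⁻¹ * h ∈ M := by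
  classical
  let cnt : Subgroup G → ℕ := fun D => {B : Subgroup G | IsSig V B ∧ B ≤ D}.ncard
  obtain ⟨m, hm⟩ : ∃ m, m = Nat.card (Subgroup G) - cnt (cj g (S : Subgroup G) ⊓ cj h (S : Subgroup G)) := ⟨_, rfl⟩
  induction m using Nat.strong_induction_on generalizing A g h with
  | _ m ih =>
  set D := cj g (S : Subgroup G) ⊓ cj h (S : Subgroup G) with hD
  set J := sSup {B : Subgroup G | IsSig V B ∧ B ≤ D} with hJdef
  have hJD : J ≤ D := sSup_le fun B hB => hB.2
  have hAJ : A ≤ J := le_sSup ⟨hA, le_inf hg hh⟩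
  have hJp : IsPGroup 2 J := (isPGroup_cj S.isPGroup').to_le (hJD.trans inf_le_left)
  set K := Subgroup.normalizer (J : Set G) with hKdef
  have hK : K ≠ ⊤ := sSup_ne_normal c hA hAJ hJp
  have hJK : J ≤ K := Subgroup.le_normalizer
  have more : ∀ g1 : G, D ≤ cj g1 (S : Subgroup G) →
      ∃ T : Sylow 2 K, J ≤ (T : Subgroup K).map K.subtype ∧
        (∀ k, (T : Subgroup K).map K.subtype ≤ cj k (S : Subgroup G) → g1⁻¹ * k ∈ M) ∧
        (∀ k, (T : Subgroup K).map K.subtype ≤ cj k (S : Subgroup G) → ∀ x ∈ K, k⁻¹ * x * k ∈ M) := by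
    intro g1 hD1
    set S1 := cj g1 (S : Subgroup G) with hS1
    have hS1p : IsPGroup 2 S1 := isPGroup_cj S.isPGroup'
    set N1 := S1 ⊓ K with hN1
    have hJN1 : J ≤ N1 := le_inf (hJD.trans hD1) hJK
    obtain ⟨T, hT⟩ := ((hS1p.to_le (inf_le_left : N1 ≤ S1)).comap_subtype (K := K)).exists_le_sylow
    have hN1T : N1 ≤ (T : Subgroup K).map K.subtype := fun x hx => ⟨⟨x, hx.2⟩, hT hx, rfl⟩
    refine ⟨T, hJN1.trans hN1T, ?_⟩
    by_cases hS1K : S1 ≤ K
    · have hfull : ∀ k, (T : Subgroup K).map K.subtype ≤ cj k (S : Subgroup G) → S1 = cj k (S : Subgroup G) :=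
        fun k hk => Subgroup.eq_of_le_of_card_ge ((le_inf le_rfl hS1K).trans (hN1T.trans hk))
          (by rw [hS1, card_cj, card_cj])
      refine ⟨fun k hk => c.mem_of_cj_eq (hfull k hk) hA ((le_inf hg hh).trans hD1), fun k hk x hx => ?_⟩
      have hle : (S : Subgroup G) ≤ cj k⁻¹ K := by
        rw [← cj_le_iff]; exact (hfull k hk) ▸ hS1K
      refine c.max (cj k⁻¹ K) hle (fun h => hK ?_) ?_
      · rw [eq_top_iff]
        intro y _
        have : k⁻¹ * y * k ∈ cj k⁻¹ K := h ▸ Subgroup.mem_top _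
        rw [mem_cj] at this
        simpa [mul_assoc] using this
      · rw [mem_cj]; simpa [mul_assoc] using hx
    · obtain ⟨x, hxS, hxN, hxn⟩ := exists_normalizer_step hS1p (inf_le_left : N1 ≤ S1)
        (fun h => hS1K (h.trans inf_le_right))
      have hxJ : ¬ cj x J ≤ J := fun h => hxN ⟨hxS, by
        have he := Subgroup.eq_of_le_of_card_ge h (le_of_eq (card_cj x J).symm)
        refine Subgroup.mem_normalizer_iff.2 fun y => ?_
        conv_rhs => rw [← he, mem_cj]
        simp [mul_assoc]⟩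
      obtain ⟨B, hBD, hBx⟩ : ∃ B ∈ {B : Subgroup G | IsSig V B ∧ B ≤ D}, ¬ cj x B ≤ J := by
        by_contra hc
        push Not at hc
        refine hxJ ?_
        rw [cj_le_iff]
        exact sSup_le fun B hB => cj_le_iff.1 (hc B hB)
      have hB' : cj x B ≤ N1 := by
        rintro _ ⟨b, hb, rfl⟩
        exact hxn b (hJN1 ((le_sSup hBD : B ≤ J) hb))
      have hnot : ¬ cj x B ≤ D := fun h => hBx (le_sSup ⟨hBD.1.conj x, h⟩)
      have hlt : ∀ E : Subgroup G, (∀ B', IsSig V B' → B' ≤ N1 → B' ≤ E) → cnt D < cnt E := by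
        intro E hE
        refine Set.ncard_lt_ncard ⟨fun B' hB' => ⟨hB'.1, hE B' hB'.1 ((le_sSup hB' : B' ≤ J).trans hJN1)⟩,
          fun hsub => hnot ((hsub ⟨hBD.1.conj x, hE _ (hBD.1.conj x) hB'⟩).2)⟩ (Set.toFinite _)
      have hbound : ∀ E : Subgroup G, cnt E ≤ Nat.card (Subgroup G) := fun E => by
        rw [← Set.ncard_univ]; exact Set.ncard_le_ncard (Set.subset_univ _) (Set.toFinite _)
      refine ⟨fun k hk => ?_, fun k hk y hy => ?_⟩
      · have h1 := hlt (cj g1 (S : Subgroup G) ⊓ cj k (S : Subgroup G))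
          (fun B' _ hB'N => le_inf (hB'N.trans inf_le_left) (hB'N.trans (hN1T.trans hk)))
        refine ih _ ?_ hA ((le_inf hg hh).trans hD1) ((hAJ.trans hJN1).trans (hN1T.trans hk)) rfl
        have := hbound (cj g1 (S : Subgroup G) ⊓ cj k (S : Subgroup G))
        omega
      · set E := sSup {B' : Subgroup G | IsSig V B' ∧ B' ≤ K} with hE
        have hEK : E ≤ K := sSup_le fun B' hB' => hB'.2
        have hEn : ∀ z ∈ K, cj z E ≤ E := by
          intro z hz
          rw [cj_le_iff]
          refine sSup_le fun B' hB' => cj_le_iff.1 (le_sSup ⟨hB'.1.conj z, ?_⟩)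
          rintro _ ⟨b, hb, rfl⟩
          exact mul_mem (mul_mem hz (hB'.2 hb)) (inv_mem hz)
        have hEfix : E ≤ fixer (mv k W) := sSup_le fun B' hB' => c.fix_proper hK T hk hB'.1 hB'.2
        obtain ⟨e, he, hey⟩ := exists_frattini K E hEK hEn T hy
        have hTE : ∀ B', IsSig V B' → B' ≤ N1 → B' ≤ (T : Subgroup K).map K.subtype ⊓ E := fun B' hB'' hBN =>
          le_inf (hBN.trans hN1T) (le_sSup ⟨hB'', hBN.trans inf_le_right⟩)
        have hek : (T : Subgroup K).map K.subtype ⊓ E ≤ cj (e * y * k) (S : Subgroup G) := by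
          rw [← hey, cj_mul (e * y) k]
          exact cj_mono (inf_le_left.trans hk)
        have h1 := hlt (cj k (S : Subgroup G) ⊓ cj (e * y * k) (S : Subgroup G))
          (fun B' hB'' hBN => le_inf (hBN.trans (hN1T.trans hk)) ((hTE B' hB'' hBN).trans hek))
        have hAT := hTE A hA (hAJ.trans hJN1)
        have h2 : k⁻¹ * (e * y * k) ∈ M := by
          refine ih _ ?_ hA (hAT.trans (inf_le_left.trans hk)) (hAT.trans hek) rfl
          have := hbound (cj k (S : Subgroup G) ⊓ cj (e * y * k) (S : Subgroup G))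
          omega
        have h3 := c.mem_of_fixer (hEfix he)
        have h4 := mul_mem (inv_mem h3) h2
        rwa [show (k⁻¹ * e * k)⁻¹ * (k⁻¹ * (e * y * k)) = k⁻¹ * y * k by group] at h4
  obtain ⟨Tg, -, hTg1, hTg2⟩ := more g inf_le_left
  obtain ⟨Th, -, hTh1, -⟩ := more h inf_le_right
  obtain ⟨k, hk⟩ := Ctx.exists_le S Tg
  obtain ⟨y, hy, hyle⟩ := exists_cj_le K Tg (Th.isPGroup'.map K.subtype) (Subgroup.map_subtype_le _)
  have hTh : (Th : Subgroup K).map K.subtype ≤ cj (y⁻¹ * k) (S : Subgroup G) := by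
    rw [cj_le_iff] at hyle
    exact hyle.trans (by rw [cj_mul]; exact cj_mono hk)
  have e1 := hTg1 k hk
  have e2 := hTg2 k hk _ (inv_mem hy)
  have e3 := hTh1 _ hTh
  have := mul_mem (mul_mem e1 e2) (inv_mem e3)
  rwa [show g⁻¹ * k * (k⁻¹ * y⁻¹ * k) * (h⁻¹ * (y⁻¹ * k))⁻¹ = g⁻¹ * h by group] at this

/-- A member of least order among those of largest weight acts quadratically. -/
theorem Ctx.quadratic (c : Ctx n S W M) {A : Subgroup G} (hA : IsSig V A)
    (hmin : ∀ B : Subgroup G, IsSig V B → Nat.card A ≤ Nat.card B) :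
    ∀ a ∈ A, ∀ v : V, a • v + v ∈ fixP A := by
  intro a0 ha0 v
  set X := (fixP A : AddSubgroup V) with hX
  let L : AddSubgroup V := AddSubgroup.closure {w | ∃ a ∈ A, w = a • v + v}
  set B := A ⊓ fixer L with hB
  have hsub : L ⊔ X ≤ (fixP B : AddSubgroup V) := sup_le (fun l hl r hr => hr.2 l hl) (fixP_mono inf_le_left)
  -- the map to the quotient
  have hinj : Nat.card A * Nat.card X ≤ Nat.card B * Nat.card ↥(L ⊔ X) := by
    let f : A → ↥(L ⊔ X) ⧸ X.addSubgroupOf (L ⊔ X) := fun a => QuotientAddGroup.mk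
      ⟨(a : G) • v + v, AddSubgroup.mem_sup_left (AddSubgroup.subset_closure ⟨a, a.2, rfl⟩)⟩
    have hf : ∀ a b : A, f a = f b → (a : G) * b ∈ B := by
      intro a b hab
      have h1 := QuotientAddGroup.eq_iff_sub_mem.1 hab
      rw [AddSubgroup.mem_addSubgroupOf] at h1
      have h2 : (a : G) • v + (b : G) • v ∈ X := by
        have e : ((a : G) • v + v) - ((b : G) • v + v) = (a : G) • v + (b : G) • v := by
          rw [show ((a : G) • v + v) - ((b : G) • v + v) = (a : G) • v - (b : G) • v by abel, sub_eq_add_neg,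
            neg_eq_of_add_eq_zero_left (c.two _)]
        exact e ▸ h1
      set x := v + ((a : G) * b) • v with hx
      have hxX : x ∈ X := by
        have h3 := h2 a a.2
        rw [smul_add, ← mul_smul, ← mul_smul, hA.1 a a.2, one_smul] at h3
        rw [hx, h3]
        exact h2
      refine ⟨mul_mem a.2 b.2, fun l hl => ?_⟩
      induction hl using AddSubgroup.closure_induction with
      | mem l hl =>
        obtain ⟨d, hd, rfl⟩ := hl
        have h5 : ((a : G) * b) • v = v + x := by rw [hx, ← add_assoc, c.two, zero_add]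
        rw [smul_add, ← mul_smul, hA.1.comm (mul_mem a.2 b.2) hd, mul_smul, h5, smul_add, hxX d hd,
          show d • v + x + (v + x) = d • v + v + (x + x) by abel, c.two, add_zero]
      | zero => exact smul_zero _
      | add l l' _ _ hl hl' => rw [smul_add, hl, hl']
      | neg l _ hl => rw [smul_neg, hl]
    let F : A → B × (↥(L ⊔ X) ⧸ X.addSubgroupOf (L ⊔ X)) := fun a =>
      (⟨(a : G) * (Function.invFun f (f a) : A), hf a _ (Function.invFun_eq ⟨a, rfl⟩).symm⟩, f a)
    have hF : Function.Injective F := by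
      intro a b hab
      have h1 : f a = f b := congrArg Prod.snd hab
      have h2 := congrArg (fun p => ((p.1 : B) : G)) hab
      simp only [F, h1] at h2
      exact Subtype.ext (mul_right_cancel h2)
    have h1 := Nat.card_le_card_of_injective F hF
    rw [Nat.card_prod] at h1
    have h2 : Nat.card X * Nat.card (↥(L ⊔ X) ⧸ X.addSubgroupOf (L ⊔ X)) = Nat.card ↥(L ⊔ X) := by
      rw [← Nat.card_congr (AddSubgroup.addSubgroupOfEquivOfLe (le_sup_right : X ≤ L ⊔ X)).toEquiv]
      exact AddSubgroup.card_mul_index _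
    calc Nat.card A * Nat.card X ≤ Nat.card B * Nat.card (↥(L ⊔ X) ⧸ X.addSubgroupOf (L ⊔ X)) * Nat.card X :=
          Nat.mul_le_mul_right _ h1
      _ = _ := by rw [mul_assoc, mul_comm _ (Nat.card X), h2]
  have hBle : Nat.card B * Nat.card ↥(L ⊔ X) ≤ mu (V := V) B :=
    Nat.mul_le_mul_left _ (AddSubgroup.card_le_of_le hsub)
  have hBmax := hA.2.2 B fun b hb => hA.1 b hb.1
  by_cases hBbot : B = ⊥
  · exfalso
    have h1 : Nat.card V ≤ Nat.card B * Nat.card ↥(L ⊔ X) := (card_le_mu hA).trans hinj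
    rw [hBbot, Subgroup.card_bot, one_mul] at h1
    have htop : L ⊔ X = ⊤ := AddSubgroup.eq_top_of_le_card _ h1
    have hXne : X ≠ ⊤ := fun h => hA.2.1 (eq_bot_iff.2 (fixer_top (G := G) (V := V) ▸ le_fixer_iff.2 h.ge))
    haveI : Nonempty {N : AddSubgroup V // X ≤ N ∧ N ≠ ⊤ ∧ ∀ a ∈ A, ∀ u ∈ N, a • u ∈ N} :=
      ⟨⟨X, le_rfl, hXne, fun a ha u hu => by rw [hu a ha]; exact hu⟩⟩
    obtain ⟨⟨N, hXN, hN, hNinv⟩, hNmax⟩ := Finite.exists_max
      (fun N : {N : AddSubgroup V // X ≤ N ∧ N ≠ ⊤ ∧ ∀ a ∈ A, ∀ u ∈ N, a • u ∈ N} => Nat.card N.1)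
    obtain ⟨u, hu, hufix⟩ := exists_fixed_mod c.two A hA.1.isPGroup N hNinv hN
    let N' : AddSubgroup V :=
      { carrier := {w | ∀ p ∈ A, p • w - w ∈ N}
        zero_mem' := fun p _ => by rw [smul_zero, sub_zero]; exact zero_mem N
        add_mem' := fun {a b} ha hb p hp => by
          rw [smul_add, show p • a + p • b - (a + b) = (p • a - a) + (p • b - b) by abel]
          exact add_mem (ha p hp) (hb p hp)
        neg_mem' := fun {a} ha p hp => by
          rw [smul_neg, show -(p • a) - -a = -(p • a - a) by abel]; exact neg_mem (ha p hp) }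
    have hNN' : N < N' := SetLike.lt_iff_le_and_exists.2
      ⟨fun w hw p hp => sub_mem (hNinv p hp w hw) hw, u, hufix, hu⟩
    have hN'top : N' = ⊤ := by
      by_contra h
      have hge := hNmax ⟨N', hXN.trans hNN'.le, h, fun p hp w hw q hq => by
        rw [← mul_smul, hA.1.comm hq hp, mul_smul, ← smul_sub]
        exact hNinv p hp _ (hw q hq)⟩
      exact hNN'.ne (AddSubgroup.eq_of_le_of_card_ge hNN'.le hge)
    refine hN (eq_top_iff.2 (htop ▸ sup_le ((AddSubgroup.closure_le _).2 ?_) hXN))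
    rintro _ ⟨p, hp, rfl⟩
    have := (hN'top ▸ AddSubgroup.mem_top v : v ∈ N') p hp
    rwa [sub_eq_add_neg, neg_eq_of_add_eq_zero_left (c.two v)] at this
  have hBsig : IsSig V B := ⟨fun b hb => hA.1 b hb.1, hBbot, fun E hE =>
    (hA.2.2 E hE).trans (hinj.trans hBle)⟩
  have hAB : B = A := Subgroup.eq_of_le_of_card_ge inf_le_left (hmin B hBsig)
  intro d hd
  exact (hAB.symm.le hd).2 _ (AddSubgroup.subset_closure ⟨a0, ha0, rfl⟩)

/-- There is no member of largest weight. -/
theorem Ctx.false (c : Ctx n S W M) {A₀ : Subgroup G} (h₀ : IsSig V A₀) : False := by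
  classical
  haveI : Nonempty {A : Subgroup G // IsSig V A} := ⟨⟨A₀, h₀⟩⟩
  obtain ⟨⟨A1, hA1⟩, hmin1⟩ := Finite.exists_min (fun A : {A : Subgroup G // IsSig V A} => Nat.card A.1)
  obtain ⟨g1, hg1⟩ := exists_cj_le_sylow S hA1.1.isPGroup
  obtain ⟨A, hAdef⟩ : ∃ A, A = cj g1⁻¹ A1 := ⟨_, rfl⟩
  have hA : IsSig V A := hAdef ▸ hA1.conj _
  have hAS : A ≤ (S : Subgroup G) := by rw [hAdef, cj_le_iff, inv_inv]; exact hg1
  have hmin : ∀ B : Subgroup G, IsSig V B → Nat.card A ≤ Nat.card B := fun B hB => by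
    rw [hAdef, card_cj]; exact hmin1 ⟨B, hB⟩
  set X := (fixP A : AddSubgroup V) with hXdef
  have hWX : W ≤ X := le_fixer_iff.1 (hA.le_fixer hAS c.pr)
  have hquad := c.quadratic hA hmin
  have hS1 : A ≤ cj 1 (S : Subgroup G) := by rw [cj_one]; exact hAS
  -- conjugates outside `M`
  have hout : ∀ g, g ∉ M → ¬ cj g A ≤ M := by
    intro g hg hle
    obtain ⟨x, hx, hxle⟩ := exists_cj_le M (S.subtype c.le_M) (isPGroup_cj hA.1.isPGroup) hle
    rw [Sylow.coe_subtype, Subgroup.subgroupOf_map_subtype, inf_eq_left.2 c.le_M, ← cj_mul, cj_le_iff] at hxle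
    have h := c.coset hA hS1 hxle
    rw [inv_one, one_mul] at h
    have h' := mul_mem (inv_mem hx) (inv_mem h)
    rw [inv_inv, inv_mul_cancel_left] at h'
    exact hg h'
  have hgen : ∀ g, g ∉ M → A ⊔ cj g A = ⊤ := by
    intro g hg
    by_contra hne
    set K := A ⊔ cj g A with hK
    obtain ⟨T, hT⟩ := (hA.1.isPGroup.comap_subtype (K := K)).exists_le_sylow
    obtain ⟨k, hk⟩ := Ctx.exists_le S T
    have hAk : A ≤ cj k (S : Subgroup G) :=
      (show A ≤ (T : Subgroup ↥K).map K.subtype from fun a ha => ⟨⟨a, Subgroup.mem_sup_left ha⟩, hT ha, rfl⟩).trans hk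
    have hkM : k ∈ M := by simpa using c.coset hA hS1 hAk
    have hfix := c.fix_proper hne T hk (hA.conj g) le_sup_right
    rw [(c.mem k).1 hkM] at hfix
    refine hout g hg fun x hx => ?_
    have := c.mem_of_fixer (k := 1) (z := x) (by rw [mv_one]; exact hfix hx)
    simpa using this
  obtain ⟨g0, hg0⟩ : ∃ g, g ∉ M := by
    by_contra h
    push Not at h
    exact c.top (eq_top_iff.2 fun g _ => h g)
  set C := (fixP (⊤ : Subgroup G) : AddSubgroup V) with hCdef
  have hfixgen : ∀ g, g ∉ M → ∀ v, v ∈ X → g⁻¹ • v ∈ X → v ∈ C := by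
    intro g hg v hv hgv x _
    have hle : A ⊔ cj g A ≤ fixer (AddSubgroup.closure {v}) := sup_le
      (le_fixer_iff.2 ((AddSubgroup.closure_le _).2 (Set.singleton_subset_iff.2 hv)))
      (le_fixer_iff.2 ((AddSubgroup.closure_le _).2 (Set.singleton_subset_iff.2 (by
        rw [fixP_cj]; exact mem_mv.2 hgv))))
    exact hle (hgen g hg ▸ Subgroup.mem_top x) v (AddSubgroup.subset_closure rfl)
  have hquadg : ∀ g : G, ∀ b ∈ cj g A, ∀ v : V, b • v + v ∈ mv g X := by
    rintro g _ ⟨a, ha, rfl⟩ v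
    rw [mem_mv]
    show g⁻¹ • ((g * a * g⁻¹) • v + v) ∈ X
    rw [smul_add, mul_smul, mul_smul, inv_smul_smul]
    exact hquad a ha _
  have hXY : ∀ g, g ∉ M → X ⊔ mv g X = (⊤ : AddSubgroup V) := by
    intro g hg
    refine c.span _ (hWX.trans le_sup_left) fun x => ?_
    have hA' : ∀ a ∈ A, ∀ v ∈ X ⊔ mv g X, a • v ∈ X ⊔ mv g X := by
      intro a ha v hv
      obtain ⟨p, hp, q, hq, rfl⟩ := AddSubgroup.mem_sup.1 hv
      refine AddSubgroup.mem_sup.2 ⟨p + (a • q + q), add_mem hp (hquad a ha q), q, hq, ?_⟩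
      rw [smul_add, hp a ha, show p + (a • q + q) + q = p + a • q + (q + q) by abel, c.two, add_zero]
    have hB' : ∀ b ∈ cj g A, ∀ v ∈ X ⊔ mv g X, b • v ∈ X ⊔ mv g X := by
      intro b hb v hv
      obtain ⟨p, hp, q, hq, rfl⟩ := AddSubgroup.mem_sup.1 hv
      refine AddSubgroup.mem_sup.2 ⟨p, hp, (b • p + p) + q, add_mem (hquadg g b hb p) hq, ?_⟩
      have : b • q = q := by
        have h := hq
        rw [hXdef, ← fixP_cj] at h
        exact h b hb
      rw [smul_add, this, show p + (b • p + p + q) = b • p + q + (p + p) by abel, c.two, add_zero]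
    exact inv_of_gen (hgen g hg) hA' hB' x
  by_cases hC : C = ⊥
  · have hC0 : ∀ v ∈ C, v = 0 := fun v hv => AddSubgroup.mem_bot.1 (hC ▸ hv)
    have hcardV : Nat.card V = Nat.card X * Nat.card X := by
      have h := card_add_sup_inf X (mv g0 X)
      have hcap : X ⊓ mv g0 X = ⊥ := eq_bot_iff.2 fun v hv =>
        AddSubgroup.mem_bot.2 (hC0 v (hfixgen g0 hg0 v hv.1 (mem_mv.1 hv.2)))
      rw [hXY g0 hg0, hcap, AddSubgroup.card_top, AddSubgroup.card_bot, mul_one, card_mv] at h
      exact h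
    haveI : Nonempty {g : G // g ∉ M} := ⟨⟨g0, hg0⟩⟩
    obtain ⟨⟨gm, hgm⟩, hgmax⟩ := Finite.exists_max (fun g : {g : G // g ∉ M} => Nat.card ↥(A ⊓ cj g.1 M))
    -- move the intersection into the Sylow subgroup
    obtain ⟨g, hg, hcard, hA0⟩ : ∃ g, g ∉ M ∧ (∀ h, h ∉ M → Nat.card ↥(A ⊓ cj h M) ≤ Nat.card ↥(A ⊓ cj g M)) ∧
        A ⊓ cj g M ≤ cj g (S : Subgroup G) := by
      have hp : IsPGroup 2 ↥(cj gm⁻¹ (A ⊓ cj gm M)) := isPGroup_cj (hA.1.isPGroup.to_le inf_le_left)
      have hleM : cj gm⁻¹ (A ⊓ cj gm M) ≤ M := by rw [cj_le_iff, inv_inv]; exact inf_le_right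
      obtain ⟨x, hx, hxle⟩ := exists_cj_le M (S.subtype c.le_M) hp hleM
      rw [Sylow.coe_subtype, Subgroup.subgroupOf_map_subtype, inf_eq_left.2 c.le_M, ← cj_mul, cj_le_iff,
        mul_inv_rev, inv_inv] at hxle
      have he : cj (gm * x⁻¹) M = cj gm M := by
        ext y
        rw [mem_cj, mem_cj, show (gm * x⁻¹)⁻¹ * y * (gm * x⁻¹) = x * (gm⁻¹ * y * gm) * x⁻¹ by group,
          M.mul_mem_cancel_right (inv_mem hx), M.mul_mem_cancel_left hx]
      refine ⟨gm * x⁻¹, fun h => hgm ?_, fun h hh => ?_, ?_⟩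
      · simpa using mul_mem h hx
      · rw [he]; exact hgmax ⟨h, hh⟩
      · rw [he]; exact hxle
    set B := cj g A with hB
    set Y := mv g X with hY
    set A0 := A ⊓ cj g M with hA0def
    have hBS : B ≤ cj g (S : Subgroup G) := cj_mono hAS
    have hfixY : ∀ a ∈ A, a ∉ cj g M → ∀ y ∈ Y, a • y = y → y = 0 := by
      intro a ha haM y hy hay
      rw [mem_cj] at haM
      refine hC0 y fun z _ => ?_
      have hle : cj g (A ⊔ cj (g⁻¹ * a * g) A) ≤ fixer (AddSubgroup.closure {y}) := by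
        rw [cj, Subgroup.map_sup, ← cj, ← cj, ← cj_mul, show g * (g⁻¹ * a * g) = a * g by group, cj_mul]
        have hy' : y ∈ (fixP B : AddSubgroup V) := by rw [hB, fixP_cj]; exact hy
        refine sup_le (le_fixer_iff.2 ((AddSubgroup.closure_le _).2 (Set.singleton_subset_iff.2 hy')))
          (le_fixer_iff.2 ((AddSubgroup.closure_le _).2 (Set.singleton_subset_iff.2 ?_)))
        rw [fixP_cj]
        refine mem_mv.2 ?_
        rw [inv_eq_of_mul_eq_one_right (hA.1 a ha), hay]
        exact hy'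
      rw [hgen _ haM] at hle
      exact hle (by rw [mem_cj]; exact Subgroup.mem_top _) y (AddSubgroup.subset_closure rfl)
    have hfixX : ∀ b ∈ B, b ∉ M → ∀ x ∈ X, b • x = x → x = 0 := by
      intro b hb hbM x hx hbx
      refine hC0 x (hfixgen b hbM x hx ?_)
      rw [inv_smul_eq_iff.2 hbx.symm]
      exact hx
    have hcap : ∀ v ∈ X, v ∈ Y → v = 0 := fun v hvX hvY => hC0 v (hfixgen g hg v hvX (mem_mv.1 hvY))
    have hXbig : Nat.card X ≤ Nat.card A := by
      have h := card_le_mu hA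
      rw [mu, hcardV] at h
      exact Nat.le_of_mul_le_mul_right h Nat.card_pos
    have hYne : Y ≠ ⊥ := by
      intro h
      have h1 : Nat.card X = 1 := by rw [← card_mv g X, ← hY, h, AddSubgroup.card_bot]
      refine hA.2.1 (eq_bot_iff.2 fun a _ => Subgroup.mem_bot.2 (eq_of_smul_eq_smul fun v : V => ?_))
      haveI : Subsingleton V := Finite.card_le_one_iff_subsingleton.1 (by rw [hcardV, h1])
      exact Subsingleton.elim _ _
    by_cases hA0bot : A0 = ⊥
    · -- a symmetric group of degree three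
      have hinjA : ∀ a ∈ A, ∀ a' ∈ A, ∀ w ∈ Y, w ≠ 0 → a • w + w = a' • w + w → a = a' := by
        intro a ha a' ha' w hw hw0 h
        by_contra hne
        have hne' : a' * a ∉ cj g M := fun hm => hne (by
          have h1 : a' * a ∈ A0 := ⟨mul_mem ha' ha, hm⟩
          rw [hA0bot, Subgroup.mem_bot] at h1
          rw [← inv_eq_of_mul_eq_one_right h1, inv_eq_of_mul_eq_one_right (hA.1 a' ha')])
        refine hw0 (hfixY _ (mul_mem ha' ha) hne' w hw ?_)
        rw [mul_smul, add_right_cancel h, ← mul_smul, hA.1 a' ha', one_smul]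
      have hbij : ∀ w ∈ Y, w ≠ 0 → ∀ x ∈ X, ∃ a ∈ A, a • w + w = x := by
        intro w hw hw0
        let f : A → X := fun a => ⟨(a : G) • w + w, hquad a a.2 w⟩
        have hf : Function.Injective f := fun a a' h =>
          Subtype.ext (hinjA a a.2 a' a'.2 w hw hw0 (congrArg Subtype.val h))
        intro x hx
        obtain ⟨a, ha⟩ := (hf.bijective_of_nat_card_le hXbig).2 ⟨x, hx⟩
        exact ⟨a, a.2, congrArg Subtype.val ha⟩
      obtain ⟨b, hb, x, hx, hbx⟩ : ∃ b ∈ B, ∃ x ∈ X, b • x + x ≠ 0 := by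
        by_contra hcon
        push Not at hcon
        refine (hA.conj g).2.1 (eq_bot_iff.2 fun b hb => Subgroup.mem_bot.2 (eq_of_smul_eq_smul fun v : V => ?_))
        obtain ⟨p, hp, q, hq, rfl⟩ := AddSubgroup.mem_sup.1 (hXY g hg ▸ AddSubgroup.mem_top v)
        have hq' : b • q = q := by
          have h := hq; rw [hXdef, ← fixP_cj] at h; exact h b hb
        have hp' : b • p = p := by
          rw [← sub_eq_zero, sub_eq_add_neg, neg_eq_of_add_eq_zero_left (c.two p)]; exact hcon b hb p hp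
        rw [smul_add, hq', hp', one_smul]
      set w := b • x + x with hw
      have hwY : w ∈ Y := hquadg g b hb x
      obtain ⟨a, ha, haw⟩ := hbij w hwY hbx x hx
      have hbw : b • w = w := by
        have h := hwY; rw [hY, hXdef, ← fixP_cj] at h; exact h b hb
      have hax : a • x = x := hx a ha
      have haw' : a • w = w + x := by rw [← haw, add_comm (a • w) w, ← add_assoc, c.two, zero_add]
      have hbx' : b • x = x + w := by rw [hw, add_comm (b • x) x, ← add_assoc, c.two, zero_add]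
      have e1 : (a * b) • x = w := by
        rw [mul_smul, hbx', smul_add, hax, haw', show x + (w + x) = w + (x + x) by abel, c.two, add_zero]
      have e2 : (a * b) • w = w + x := by rw [mul_smul, hbw, haw']
      have e3 : (a * b) • (w + x) = x := by
        rw [smul_add, e1, e2, show w + x + w = x + (w + w) by abel, c.two, add_zero]
      have hcyc : ∀ m : ℕ, (a * b) ^ m • x = if m % 3 = 0 then x else if m % 3 = 1 then w else w + x := by
        intro m
        induction m with
        | zero => simp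
        | succ m ihm =>
          rw [pow_succ', mul_smul, ihm]
          have : m % 3 = 0 ∨ m % 3 = 1 ∨ m % 3 = 2 := by omega
          rcases this with h | h | h
          · simp [h, Nat.add_mod, e1]
          · simp [h, Nat.add_mod, e2]
          · simp [h, Nat.add_mod, e3]
      have hx0 : x ≠ 0 := fun h => hbx (by rw [hw, h, smul_zero, add_zero])
      have hxw : w ≠ x := fun h => hx0 (hcap x hx (h ▸ hwY))
      have h3 : orderOf (a * b) % 3 = 0 := by
        have h := hcyc (orderOf (a * b))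
        rw [pow_orderOf_eq_one, one_smul] at h
        have : orderOf (a * b) % 3 = 0 ∨ orderOf (a * b) % 3 = 1 ∨ orderOf (a * b) % 3 = 2 := by omega
        rcases this with h' | h' | h'
        · exact h'
        · rw [h'] at h; exact absurd h.symm hxw
        · rw [h'] at h; exact absurd (left_eq_add.1 (h.trans (add_comm w x))) hbx
      obtain ⟨r, hr⟩ : ∃ r, orderOf (a * b) = 3 * r := ⟨orderOf (a * b) / 3, by omega⟩
      refine c.free (SFourLocal.involves_three (hA.1 a ha) (z := (a * b) ^ r) ?_ ?_ ?_)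
      · rw [← pow_mul, mul_comm, ← hr, pow_orderOf_eq_one]
      · intro h
        have hdvd := orderOf_dvd_of_pow_eq_one h
        have hpos := orderOf_pos (a * b)
        have := Nat.le_of_dvd (by omega) hdvd
        omega
      · have hbb : b * b = 1 := (hA.conj g).1 b hb
        have ha' : a⁻¹ = a := inv_eq_of_mul_eq_one_right (hA.1 a ha)
        have hb' : b⁻¹ = b := inv_eq_of_mul_eq_one_right hbb
        rw [← inv_pow, mul_inv_rev, ha', hb']
        conv_lhs => enter [2]; rw [← ha']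
        rw [show b * a = a * (a * b) * a⁻¹ by rw [← mul_assoc a a, hA.1 a ha, one_mul, ha'],
          conj_pow]
    · -- descent
      have hA0ne : A0 ≠ A := by
        intro h
        refine hout g⁻¹ (fun hm => hg (inv_mem_iff.1 hm)) ?_
        rw [cj_le_iff, inv_inv]
        exact h ▸ inf_le_right
      set K0 := (Y ⊓ fixP A0 : AddSubgroup V) with hK0
      have hK0lt : Nat.card A0 * Nat.card K0 < Nat.card A := by
        have hsub : X ⊔ K0 ≤ (fixP A0 : AddSubgroup V) := sup_le (fixP_mono inf_le_left) inf_le_right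
        have h1 := card_add_sup_inf X K0
        have hcap' : X ⊓ K0 = ⊥ := eq_bot_iff.2 fun v hv => AddSubgroup.mem_bot.2 (hcap v hv.1 hv.2.1)
        rw [hcap', AddSubgroup.card_bot, mul_one] at h1
        have h2 : mu (V := V) A0 < mu (V := V) A := by
          refine lt_of_le_of_ne (hA.2.2 A0 fun a ha => hA.1 a ha.1) fun he => ?_
          have hsig : IsSig V A0 := ⟨fun a ha => hA.1 a ha.1, hA0bot, fun E hE => he ▸ hA.2.2 E hE⟩
          exact hA0ne (Subgroup.eq_of_le_of_card_ge inf_le_left (hmin A0 hsig))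
        refine Nat.lt_of_mul_lt_mul_right (a := Nat.card X) ?_
        calc Nat.card A0 * Nat.card K0 * Nat.card X = Nat.card A0 * Nat.card ↥(X ⊔ K0) := by rw [h1]; ring
          _ ≤ mu (V := V) A0 := Nat.mul_le_mul_left _ (AddSubgroup.card_le_of_le hsub)
          _ < _ := h2
      set P := A0 ⊔ B with hP
      have hP2 : IsPGroup 2 P := (isPGroup_cj S.isPGroup').to_le (sup_le hA0 hBS)
      have hK0P : ∀ p ∈ P, ∀ v ∈ K0, p • v = v := fun p hp v hv => by
        have hle : P ≤ fixer K0 := sup_le (le_fixer_iff.2 inf_le_right) (le_fixer_iff.2 (by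
          rw [hB, fixP_cj]; exact inf_le_left))
        exact hle hp v hv
      have hK0top : K0 ≠ ⊤ := by
        intro h
        have : A0 ≤ fixer (⊤ : AddSubgroup V) := le_fixer_iff.2 (h ▸ inf_le_right)
        rw [fixer_top, le_bot_iff] at this
        exact hA0bot this
      obtain ⟨v, hv, hvP⟩ := exists_fixed_mod c.two P hP2 K0 (fun p hp u hu => by rw [hK0P p hp u hu]; exact hu) hK0top
      obtain ⟨x, hx, y, hy, rfl⟩ := AddSubgroup.mem_sup.1 (hXY g hg ▸ AddSubgroup.mem_top v)
      have hyfix : ∀ b ∈ B, b • y = y := fun b hb => by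
        have h := hy; rw [hXdef, ← fixP_cj] at h; exact h b hb
      have hx0 : x ≠ 0 := by
        rintro rfl
        rw [zero_add] at hv hvP
        refine hv ⟨hy, fun a ha => ?_⟩
        have h1 := hvP a (Subgroup.mem_sup_left ha)
        have h2 : a • y - y ∈ X := by
          rw [sub_eq_add_neg, neg_eq_of_add_eq_zero_left (c.two y)]; exact hquad a ha.1 y
        exact sub_eq_zero.1 (hcap _ h2 h1.1)
      let f : B → K0 := fun b => ⟨(b : G) • x - x, by
        have := hvP b (Subgroup.mem_sup_right b.2)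
        rwa [smul_add, hyfix b b.2, add_sub_add_right_eq_sub] at this⟩
      have hf : ∀ b b' : B, f b = f b' → (b : G) * b' ∈ B ⊓ M := by
        intro b b' h
        refine ⟨mul_mem b.2 b'.2, by_contra fun hM => hx0 (hfixX _ (mul_mem b.2 b'.2) hM x hx ?_)⟩
        have h1 : (b : G) • x = (b' : G) • x := sub_left_inj.1 (congrArg Subtype.val h)
        rw [mul_smul, ← h1, ← mul_smul, (hA.conj g).1 b b.2, one_smul]
      have hBM : Nat.card B ≤ Nat.card ↥(B ⊓ M) * Nat.card K0 := by
        let F : B → ↥(B ⊓ M) × K0 := fun b =>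
          (⟨(b : G) * (Function.invFun f (f b) : B), hf b _ (Function.invFun_eq ⟨b, rfl⟩).symm⟩, f b)
        have hF : Function.Injective F := by
          intro b b' hab
          have h1 : f b = f b' := congrArg Prod.snd hab
          have h2 := congrArg (fun p => ((p.1 : ↥(B ⊓ M)) : G)) hab
          simp only [F, h1] at h2
          exact Subtype.ext (mul_right_cancel h2)
        have := Nat.card_le_card_of_injective F hF
        rwa [Nat.card_prod] at this
      have hBM' : Nat.card ↥(B ⊓ M) = Nat.card ↥(A ⊓ cj g⁻¹ M) := by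
        rw [← card_cj g⁻¹ (B ⊓ M), hB, cj, Subgroup.map_inf _ _ _ (MulAut.conj g⁻¹).injective, ← cj, ← cj, ← cj_mul,
          inv_mul_cancel, cj_one]
      rw [card_cj, hBM'] at hBM
      have h5 := hcard g⁻¹ fun hm => hg (inv_mem_iff.1 hm)
      exact absurd hBM (not_le.2 (lt_of_le_of_lt (Nat.mul_le_mul_right _ h5) hK0lt))
  · -- the fixed point case
    refine absurd (card_le_mu hA) (not_le.2 (card_lt_of_fixed c.ih c.le c.two c.free S W M c.span c.top c.max
      c.pr_core A g0 hAS (hgen g0 hg0) (by rw [fixP_cj]; exact hXY g0 hg0) hWX hquad ?_ hC ?_))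
    · rintro a ⟨ha, haQ⟩ v
      have htop : (⨆ k : G, mv k W) = (⊤ : AddSubgroup V) := by
        refine c.span _ ((le_of_eq (mv_one W).symm).trans (le_iSup (fun g : G => mv g W) 1)) fun x u hu => ?_
        have h1 : mv x (⨆ g : G, mv g W) ≤ ⨆ g : G, mv g W := by
          conv_lhs => rw [mv, AddSubgroup.map_iSup]
          refine iSup_le fun g => ?_
          rw [show (mv g W).map (DistribSMul.toAddMonoidHom V x) = mv (x * g) W from (mv_mul x g W).symm]
          exact le_iSup (fun g : G => mv g W) (x * g)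
        exact h1 (smul_mem_mv hu)
      let T : AddSubgroup V :=
        { carrier := {u | a • u + u ∈ C}
          zero_mem' := by show a • (0 : V) + 0 ∈ C; rw [smul_zero, add_zero]; exact zero_mem _
          add_mem' := fun {p q} hp hq => by
            show a • (p + q) + (p + q) ∈ C
            rw [smul_add, add_add_add_comm]; exact add_mem hp hq
          neg_mem' := fun {p} hp => by
            show a • -p + -p ∈ C
            rw [smul_neg, ← neg_add]; exact neg_mem hp }
      have hT : (⨆ k : G, mv k W) ≤ T := iSup_le fun k u hu => by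
        show a • u + u ∈ C
        by_cases hk : k ∈ M
        · rw [(c.mem k).1 hk] at hu
          rw [hWX hu a ha, c.two]; exact zero_mem _
        · refine hfixgen k hk _ (hquad a ha u) (hWX ?_)
          have hq : k⁻¹ * a * k ∈ (S : Subgroup G) := by
            refine Cores.pCore_le_sylow S ?_
            simpa using (inferInstance : (Cfsg.pCore 2 G).Normal).conj_mem a haQ k⁻¹
          have hu' := mem_mv.1 hu
          have := c.inv _ hq _ hu'
          rw [mul_smul, mul_smul, smul_inv_smul] at this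
          rw [smul_add]
          exact add_mem this hu'
      exact hT (htop.symm ▸ AddSubgroup.mem_top v)
    · intro h
      refine hA.2.1 (eq_bot_iff.2 fun a _ => Subgroup.mem_bot.2 (eq_of_smul_eq_smul fun v : V => ?_))
      rw [one_smul]
      have hvC : v ∈ (fixP (⊤ : Subgroup G) : AddSubgroup V) := by rw [h]; exact AddSubgroup.mem_top v
      exact hvC a (Subgroup.mem_top a)

/-- The theorem. -/
theorem goal_all : ∀ n, Goal.{v} n := by
  intro n
  induction n using Nat.strong_induction_on with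
  | _ n ih =>
  intro G V _ _ _ _ _ _ hn h2 hfree S W0 hW0inv hW0 hspan
  classical
  haveI : Nonempty {W : AddSubgroup V // W0 ≤ W ∧ (∀ s ∈ (S : Subgroup G), ∀ w ∈ W, s • w ∈ W) ∧ Pr (S : Subgroup G) W} :=
    ⟨⟨W0, le_rfl, hW0inv, hW0⟩⟩
  obtain ⟨⟨W, hW0W, hWinv, hW⟩, hWmax⟩ := Finite.exists_max
    (fun W : {W : AddSubgroup V // W0 ≤ W ∧ (∀ s ∈ (S : Subgroup G), ∀ w ∈ W, s • w ∈ W) ∧ Pr (S : Subgroup G) W} =>
      Nat.card W.1)
  have hspanW : ∀ U : AddSubgroup V, W ≤ U → (∀ g : G, ∀ v ∈ U, g • v ∈ U) → U = ⊤ :=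
    fun U hU => hspan U (hW0W.trans hU)
  by_cases hWtop : W = ⊤
  · subst hWtop; exact hW
  let M : Subgroup G :=
    { carrier := {g | mv g W = W}
      one_mem' := mv_one W
      mul_mem' := fun {a b} (ha : mv a W = W) (hb : mv b W = W) => show mv (a * b) W = W by rw [mv_mul, hb, ha]
      inv_mem' := fun {a} (ha : mv a W = W) => show mv a⁻¹ W = W by
        nth_rewrite 1 [← ha]
        rw [← mv_mul, inv_mul_cancel, mv_one] }
  have hmax : ∀ H : Subgroup G, (S : Subgroup G) ≤ H → H ≠ ⊤ → H ≤ M := by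
    intro H hSH hH
    set U := clo H W with hUdef
    have hU : ∀ h ∈ H, ∀ u ∈ U, h • u ∈ U := fun h hh u hu => smul_mem_clo hh hu
    have hlt : Nat.card ↥(resHom H U hU).range + Nat.card U < n := by
      have h1 : Nat.card ↥(resHom H U hU).range ≤ Nat.card H :=
        Nat.card_le_card_of_surjective _ (MonoidHom.rangeRestrict_surjective _)
      have h3 : Nat.card H < Nat.card G := lt_of_le_of_ne (Subgroup.card_le_card_group H) fun h =>
        hH (Subgroup.eq_top_of_card_eq H h)
      have h4 : Nat.card U ≤ Nat.card V := card_le_card_space U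
      omega
    have hmap : ((S.subtype hSH : Sylow 2 H) : Subgroup H).map H.subtype = (S : Subgroup G) := by
      rw [Sylow.coe_subtype, Subgroup.subgroupOf_map_subtype, inf_eq_left.2 hSH]
    have hP := Goal.apply (ih _ hlt) h2 H U hU (not_involves_resHom hfree _ _ _) (S.subtype hSH) W (le_clo H W)
      (by rw [hmap]; exact hWinv) (by rw [hmap]; exact hW) (fun U' h1 h3 => clo_le h1 h3) le_rfl
    rw [hmap] at hP
    have heq := AddSubgroup.eq_of_le_of_card_ge (le_clo H W : W ≤ U)
      (hWmax ⟨U, hW0W.trans (le_clo H W), fun s hs => hU s (hSH hs), hP⟩)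
    intro h hh
    refine AddSubgroup.eq_of_le_of_card_ge ?_ (le_of_eq (card_mv h W).symm)
    rintro _ ⟨w, hw, rfl⟩
    show h • w ∈ W
    rw [heq] at hw ⊢
    exact hU h hh w hw
  have hM : M ≠ ⊤ := by
    intro h
    refine hWtop (hspanW W le_rfl fun g v hv => ?_)
    have hg : mv g W = W := (h ▸ Subgroup.mem_top g : g ∈ M)
    exact hg ▸ smul_mem_mv hv
  have c : Ctx n S W M := ⟨ih, hn, h2, hfree, hWinv, hW, hspanW, fun g => Iff.rfl, hM, hmax⟩
  intro R hRS hsq hnR
  by_contra hcon
  push Not at hcon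
  rw [fixer_top, top_inf_eq, Subgroup.relIndex_bot_left, AddSubgroup.card_top] at hcon
  rw [fixer_top] at hsq hnR
  haveI : Nonempty {B : Subgroup G // EA B ∧ B ≠ ⊥} :=
    ⟨⟨R, fun r hr => Subgroup.mem_bot.1 (hsq r hr), fun h => hnR h.le⟩⟩
  obtain ⟨⟨A, hAea, hAne⟩, hAmax⟩ := Finite.exists_max (fun B : {B : Subgroup G // EA B ∧ B ≠ ⊥} => mu (V := V) B.1)
  refine c.false (A₀ := A) ⟨hAea, hAne, fun B hB => ?_⟩
  by_cases hBne : B = ⊥
  · subst hBne
    refine le_trans ?_ (hAmax ⟨R, fun r hr => Subgroup.mem_bot.1 (hsq r hr), fun h => hnR h.le⟩)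
    rw [mu, mu, Subgroup.card_bot, one_mul]
    exact (card_le_card_space _).trans hcon
  · exact hAmax ⟨B, hB, hBne⟩

end Cfsg.Agent.Lib.SFourGeneral
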