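import Cfsg.Agent.Lib.PLocal.QdSection
import Cfsg.Agent.Lib.LocalEven.Qd
import Cfsg.Agent.Lib.Classical.LinearCard
import Cfsg.Prelude.Def_ConjugacyFunctors

/-!
No family of functors controls strong fusion in `Qd(p)`.
-/

set_option autoImplicit false
set_option linter.unusedSectionVars false
set_option linter.style.haveILetI false
set_option maxHeartbeats 1000000

open Matrix

namespace Cfsg.Agent.Lib.SFourGeneral

universe u

open Cfsg.Agent.Lib.LocalEven

variable {F : Type*} [Field F]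

/-- The upper unitriangular matrix. -/
def uMat (a : F) : SpecialLinearGroup (Fin 2) F := ⟨!![1, a; 0, 1], by simp [det_fin_two]⟩

theorem uMat_mul (a b : F) : uMat a * uMat b = uMat (a + b) :=
  Subtype.ext (by
    show !![(1 : F), a; 0, 1] * !![1, b; 0, 1] = !![1, a + b; 0, 1]
    ext i j; fin_cases i <;> fin_cases j <;> simp [Matrix.mul_apply, Fin.sum_univ_two, add_comm])

theorem uMat_zero : uMat (0 : F) = 1 :=
  Subtype.ext (by
    show !![(1 : F), 0; 0, 1] = 1
    ext i j; fin_cases i <;> fin_cases j <;> simp)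

theorem uMat_mulVec (a : F) (w : Fin 2 → F) : (uMat a).1 *ᵥ w = ![w 0 + a * w 1, w 1] := by
  funext i; fin_cases i <;> simp [uMat, Matrix.mulVec, dotProduct, Fin.sum_univ_two]

theorem uMat_inj {a b : F} (h : uMat a = uMat b) : a = b := by
  have := congrArg (fun g : SpecialLinearGroup (Fin 2) F => g.1 0 1) h
  simpa [uMat] using this

theorem el_injective {g h : SpecialLinearGroup (Fin 2) F} {v w : Fin 2 → F}
    (e : Qd.el g v = Qd.el h w) : g = h ∧ v = w :=
  Qd.aff_injective (congrArg Subtype.val e)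

/-- A Sylow subgroup of `Qd(p)`. -/
def tri (F : Type*) [Field F] : Subgroup (Cfsg.qdOver F) where
  carrier := {x | ∃ (a : F) (v : Fin 2 → F), x = Qd.el (uMat a) v}
  one_mem' := ⟨0, 0, by rw [uMat_zero, Qd.el_one]⟩
  mul_mem' := by
    rintro _ _ ⟨a, v, rfl⟩ ⟨b, w, rfl⟩
    exact ⟨a + b, (uMat a).1 *ᵥ w + v, by rw [Qd.el_mul, uMat_mul]⟩
  inv_mem' := by
    rintro _ ⟨a, v, rfl⟩
    have h : (uMat a)⁻¹ = uMat (-a) :=
      inv_eq_of_mul_eq_one_right (by rw [uMat_mul, add_neg_cancel, uMat_zero])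
    exact ⟨-a, -((uMat a)⁻¹.1 *ᵥ v), by rw [Qd.el_inv, ← h]⟩

/-- The elements fixing the distinguished line. -/
def lineStab (F : Type*) [Field F] : Subgroup (Cfsg.qdOver F) where
  carrier := {x | (Qd.proj x : Matrix (Fin 2) (Fin 2) F) 1 0 = 0}
  one_mem' := by simp
  mul_mem' := fun {a b} ha hb => by
    have e : ((Qd.proj (a * b) : SpecialLinearGroup (Fin 2) F) : Matrix (Fin 2) (Fin 2) F) =
        (Qd.proj a : Matrix (Fin 2) (Fin 2) F) * (Qd.proj b : Matrix (Fin 2) (Fin 2) F) := by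
      rw [map_mul]; exact Matrix.SpecialLinearGroup.coe_mul _ _
    have ha' : (Qd.proj a : Matrix (Fin 2) (Fin 2) F) 1 0 = 0 := ha
    have hb' : (Qd.proj b : Matrix (Fin 2) (Fin 2) F) 1 0 = 0 := hb
    show (Qd.proj (a * b) : Matrix (Fin 2) (Fin 2) F) 1 0 = 0
    rw [e, Matrix.mul_apply, Fin.sum_univ_two, ha', hb', zero_mul, mul_zero, add_zero]
  inv_mem' := fun {a} ha => by
    have e : ((Qd.proj a⁻¹ : SpecialLinearGroup (Fin 2) F) : Matrix (Fin 2) (Fin 2) F) =
        (Qd.proj a : Matrix (Fin 2) (Fin 2) F).adjugate := by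
      rw [map_inv]; rfl
    have ha' : (Qd.proj a : Matrix (Fin 2) (Fin 2) F) 1 0 = 0 := ha
    show (Qd.proj a⁻¹ : Matrix (Fin 2) (Fin 2) F) 1 0 = 0
    rw [e, adjugate_fin_two]
    simp [ha']

theorem card_tri [Finite F] : Nat.card (tri F) = Nat.card F ^ 3 := by
  rw [Nat.card_congr (β := F × (Fin 2 → F))]
  · rw [Nat.card_prod, Nat.card_fun, Nat.card_fin]; ring
  exact (Equiv.ofBijective (fun q : F × (Fin 2 → F) =>
    (⟨Qd.el (uMat q.1) q.2, q.1, q.2, rfl⟩ : tri F)) ⟨fun q r h => by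
      obtain ⟨h1, h2⟩ := el_injective (congrArg Subtype.val h)
      exact Prod.ext (uMat_inj h1) h2, fun x => by
      obtain ⟨a, v, h⟩ := x.2
      exact ⟨(a, v), Subtype.ext h.symm⟩⟩).symm

theorem not_dvd_index_tri [Finite F] {p : ℕ} (hp : p.Prime) (hF : Nat.card F = p) : ¬ p ∣ (tri F).index := by
  classical
  haveI := Fintype.ofFinite F
  have h := (tri F).card_mul_index
  rw [card_tri, Subgroup.card_eq_card_quotient_mul_card_subgroup (Qd.proj (F := F)).ker,
    Nat.card_congr (QuotientGroup.quotientKerEquivOfSurjective _ Qd.proj_surjective).toEquiv, Qd.card_ker,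
    Classical.card_SL2, ← Nat.card_eq_fintype_card, hF] at h
  have h' : (tri F).index = p ^ 2 - 1 := by
    refine Nat.eq_of_mul_eq_mul_left (pow_pos hp.pos 3) ?_
    rw [h]; ring
  rw [h']
  intro hd
  have h3 := Nat.dvd_sub (dvd_pow_self p two_ne_zero : p ∣ p ^ 2) hd
  rw [Nat.sub_sub_self (Nat.one_le_pow _ _ hp.pos)] at h3
  exact hp.not_dvd_one h3

/-- The lower unitriangular matrix. -/
def loMat (F : Type*) [Field F] : SpecialLinearGroup (Fin 2) F := ⟨!![1, 0; 1, 1], by simp [det_fin_two]⟩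

theorem loMat_mulVec : (loMat F).1 *ᵥ ![1, 0] = (![1, 1] : Fin 2 → F) := by
  funext i; fin_cases i <;> simp [loMat, Matrix.mulVec, dotProduct, Fin.sum_univ_two]

theorem line_apply {g : SpecialLinearGroup (Fin 2) F} (h : (g : Matrix (Fin 2) (Fin 2) F) 1 0 = 0) :
    (g.1 *ᵥ ![1, 0]) 1 = 0 := by
  simp [Matrix.mulVec, dotProduct, Fin.sum_univ_two, h]

/-- The automorphism of the Sylow subgroup exchanging its two coordinates. -/
theorem exists_swap : ∃ φ : tri F ≃* tri F, ∀ (a : F) (v : Fin 2 → F) (x : tri F),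
    (x : Cfsg.qdOver F) = Qd.el (uMat a) v →
      (φ x : Cfsg.qdOver F) = Qd.el (uMat (v 1)) ![a * v 1 - v 0, a] := by
  classical
  let e : F × (Fin 2 → F) ≃ tri F := Equiv.ofBijective (fun q =>
    (⟨Qd.el (uMat q.1) q.2, q.1, q.2, rfl⟩ : tri F)) ⟨fun q r h => by
      obtain ⟨h1, h2⟩ := el_injective (congrArg Subtype.val h)
      exact Prod.ext (uMat_inj h1) h2, fun x => by
      obtain ⟨a, v, h⟩ := x.2
      exact ⟨(a, v), Subtype.ext h.symm⟩⟩
  let sw : F × (Fin 2 → F) → F × (Fin 2 → F) := fun q =>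
    (q.2 1, ![q.1 * q.2 1 - q.2 0, q.1])
  have hsw : ∀ q, sw (sw q) = q := by
    rintro ⟨a, v⟩
    refine Prod.ext (by simp [sw]) (funext fun i => ?_)
    fin_cases i <;> simp [sw, mul_comm]
  let f : tri F → tri F := fun x => e (sw (e.symm x))
  have hff : ∀ x, f (f x) = x := fun x => by simp [f, hsw]
  have hval : ∀ q, (e q : Cfsg.qdOver F) = Qd.el (uMat q.1) q.2 := fun q => rfl
  have hmul : ∀ q r, e q * e r = e (q.1 + r.1, ![q.2 0 + r.2 0 + q.1 * r.2 1, q.2 1 + r.2 1]) := by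
    intro q r
    refine Subtype.ext ?_
    rw [Subgroup.coe_mul, hval, hval, hval, Qd.el_mul, uMat_mul, uMat_mulVec]
    congr 1
    funext i; fin_cases i <;> simp <;> abel
  refine ⟨MulEquiv.mk' ⟨f, f, hff, hff⟩ (fun x y => ?_), fun a v x hx => ?_⟩
  · show f (x * y) = f x * f y
    obtain ⟨q, rfl⟩ := e.surjective x
    obtain ⟨r, rfl⟩ := e.surjective y
    simp only [f, hmul, Equiv.symm_apply_apply]
    congr 1
    refine Prod.ext (by simp [sw]) (funext fun i => ?_)
    fin_cases i <;> simp [sw] <;> ring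
  · show (f x : Cfsg.qdOver F) = _
    rw [show x = e (a, v) from Subtype.ext hx]
    simp only [f, Equiv.symm_apply_apply, hval, sw]

/-- A nontrivial characteristic subgroup of the Sylow subgroup has its normaliser in the line stabiliser. -/
theorem normalizer_le_lineStab (W : Subgroup (tri F)) (hW : W ≠ ⊥)
    (hchar : ∀ φ : tri F ≃* tri F, W.map φ.toMonoidHom = W) :
    Subgroup.normalizer ((W.map (tri F).subtype : Subgroup (Cfsg.qdOver F)) : Set (Cfsg.qdOver F)) ≤
      lineStab F := by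
  classical
  intro x hx
  obtain ⟨g, u, rfl⟩ := Qd.el_surj x
  set W' := W.map (tri F).subtype with hW'
  have hconj : ∀ y ∈ W', Qd.el g u * y * (Qd.el g u)⁻¹ ∈ W' := fun y hy => (Subgroup.mem_normalizer_iff.1 hx y).1 hy
  show (Qd.proj (Qd.el g u)).1 1 0 = 0
  rw [Qd.proj_el]
  by_cases hnotV : ∃ y ∈ W', Qd.proj y ≠ 1
  · obtain ⟨y, hy, hy1⟩ := hnotV
    obtain ⟨⟨_, a, v, rfl⟩, hyW, rfl⟩ := hy
    replace hy1 : Qd.proj (Qd.el (uMat a) v) ≠ 1 := hy1
    rw [Qd.proj_el] at hy1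
    have ha : a ≠ 0 := fun h => hy1 (by rw [h, uMat_zero])
    obtain ⟨⟨z, b, w, rfl⟩, -, hzeq⟩ := hconj _ (Subgroup.mem_map_of_mem _ hyW)
    have h1 := congrArg Qd.proj hzeq
    simp only [Subgroup.coe_subtype, map_mul, map_inv, Qd.proj_el] at h1
    have h2 : uMat b * g = g * uMat a := by rw [h1]; group
    have h2' : (uMat b).1 * g.1 = g.1 * (uMat a).1 := congrArg Subtype.val h2
    have h3 := congrFun (congrFun h2' 1) 1
    simp [uMat, Matrix.mul_apply, Fin.sum_univ_two] at h3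
    exact h3.resolve_right ha
  · push Not at hnotV
    have htr : ∀ y ∈ W', ∃ v, y = Qd.el 1 v := fun y hy => Qd.mem_ker_proj_iff.1 (hnotV y hy)
    have hs : ∀ v, Qd.el 1 v ∈ W' → v 1 = 0 := by
      intro v hv
      obtain ⟨φ, hφ⟩ := exists_swap (F := F)
      obtain ⟨y, hy, hye⟩ := hv
      have h1 : φ y ∈ W := hchar φ ▸ Subgroup.mem_map_of_mem _ hy
      have h2 := hφ 0 v y (by rw [uMat_zero]; exact hye)
      obtain ⟨w, hw⟩ := htr (φ y : tri F) ⟨_, h1, rfl⟩
      rw [h2] at hw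
      exact uMat_inj ((el_injective hw).1.trans uMat_zero.symm)
    obtain ⟨v, hv, hv0⟩ : ∃ v, Qd.el 1 v ∈ W' ∧ v ≠ 0 := by
      obtain ⟨y, hy, hy1⟩ : ∃ y ∈ W, y ≠ 1 := by
        by_contra h
        push Not at h
        exact hW (eq_bot_iff.2 fun y hy => Subgroup.mem_bot.2 (h y hy))
      obtain ⟨v, hv⟩ := htr y ⟨y, hy, rfl⟩
      refine ⟨v, ⟨y, hy, hv⟩, fun h0 => hy1 (Subtype.ext ?_)⟩
      rw [hv, h0, Qd.el_one]; rfl
    have hv1 := hs v hv
    have hv00 : v 0 ≠ 0 := fun h => hv0 (funext fun i => by fin_cases i <;> assumption)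
    have h1 := hconj _ hv
    rw [Qd.conj_trans] at h1
    have h2 := hs _ h1
    simp [Matrix.mulVec, dotProduct, Fin.sum_univ_two, hv1] at h2
    exact h2.resolve_right hv00

section ZMod

variable {p : ℕ} [hp : Fact p.Prime]

/-- No family controls strong fusion in a copy of `Qd(p)`. -/
theorem not_controls {Y : Type u} [Group Y] [Finite Y] (e : Y ≃* ↥(Cfsg.qd p))
    (𝓦 : Set (∀ (Q : Type u) [Group Q], Subgroup Q)) (h𝓦 : ∀ W ∈ 𝓦, Cfsg.IsCharPFunctor.{u} p W) :
    ¬ Cfsg.FamilyControlsStrongFusionIn p ((fun W => Cfsg.inducedFunctor (G := Y) W) '' 𝓦) ⊤ := by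
  classical
  let ε : Y ≃* Cfsg.qdOver (ZMod p) := e
  rintro ⟨T, -, hTp, hTi, hctrl⟩
  rw [Subgroup.relIndex_top_right] at hTi
  have htp : IsPGroup p (tri (ZMod p)) := IsPGroup.of_card (n := 3) (by rw [card_tri, Nat.card_zmod])
  have hTi' : ¬ p ∣ (T.map ε.toMonoidHom).index := by
    rw [show ε.toMonoidHom = (ε : Y →* Cfsg.qdOver (ZMod p)) from rfl, Subgroup.index_map_equiv]
    exact hTi
  obtain ⟨q, hq⟩ := MulAction.exists_smul_eq (Cfsg.qdOver (ZMod p)) ((hTp.map ε.toMonoidHom).toSylow hTi')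
    (htp.toSylow (not_dvd_index_tri hp.out (Nat.card_zmod p)))
  set f := ε.trans (MulAut.conj q) with hf
  have hfT : T.map f.toMonoidHom = tri (ZMod p) := by
    have h := congrArg (fun S : Sylow p (Cfsg.qdOver (ZMod p)) => (S : Subgroup (Cfsg.qdOver (ZMod p)))) hq
    simp only [Sylow.coe_subgroup_smul, IsPGroup.toSylow_coe] at h
    rw [← h]
    show T.map f.toMonoidHom = (T.map ε.toMonoidHom).map (MulAut.conj q).toMonoidHom
    rw [Subgroup.map_map]
    rfl
  let eT : T ≃* tri (ZMod p) := (T.equivMapOfInjective f.toMonoidHom f.injective).trans (MulEquiv.subgroupCongr hfT)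
  have heT : ∀ t : T, (eT t : Cfsg.qdOver (ZMod p)) = f t := fun t => rfl
  haveI : Nontrivial T := by
    refine Finite.one_lt_card_iff_nontrivial.1 ?_
    rw [Nat.card_congr eT.toEquiv, card_tri, Nat.card_zmod]
    exact Nat.one_lt_pow (by norm_num) hp.out.one_lt
  have hstep : ∀ W ∈ 𝓦, ∀ y ∈ Subgroup.normalizer ((Cfsg.inducedFunctor (G := Y) W T : Subgroup Y) : Set Y),
      f y ∈ lineStab (ZMod p) := by
    intro W hW y hy
    obtain ⟨hne, hinv⟩ := h𝓦 W hW
    refine normalizer_le_lineStab ((W T).map eT.toMonoidHom) ?_ (fun φ => ?_) ?_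
    · rw [Ne, Subgroup.map_eq_bot_iff_of_injective _ eT.injective]
      exact hne T hTp inferInstance
    · have h1 := hinv T T hTp (eT.trans (φ.trans eT.symm))
      conv_rhs => rw [← h1]
      rw [Subgroup.map_map, Subgroup.map_map]
      congr 1
      ext t
      simp
    · have he : ((W T).map eT.toMonoidHom).map (tri (ZMod p)).subtype =
          (Cfsg.inducedFunctor (G := Y) W T).map f.toMonoidHom := by
        rw [Cfsg.inducedFunctor, Subgroup.map_map, Subgroup.map_map]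
        rfl
      rw [he]
      refine Subgroup.mem_normalizer_iff.2 fun z => ?_
      obtain ⟨z, rfl⟩ := f.surjective z
      rw [show f y * f z * (f y)⁻¹ = f.toMonoidHom (y * z * y⁻¹) by simp,
        Subgroup.mem_map_iff_mem f.injective, show f z = f.toMonoidHom z from rfl,
        Subgroup.mem_map_iff_mem f.injective]
      exact Subgroup.mem_normalizer_iff.1 hy z
  have hmem : ∀ y : Y, f y ∈ tri (ZMod p) → y ∈ T := by
    intro y hy
    rw [← hfT] at hy
    exact (Subgroup.mem_map_iff_mem f.injective).1 hy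
  have hz : f (f.symm (Qd.el 1 ![1, 0])) ∈ tri (ZMod p) := by
    rw [f.apply_symm_apply]; exact ⟨0, _, by rw [uMat_zero]⟩
  obtain ⟨n, c, hc0, hsteps, -, hlast⟩ := hctrl {f.symm (Qd.el 1 ![1, 0])} (f.symm (Qd.el (loMat (ZMod p)) 0))
    (Subgroup.mem_top _) (Set.singleton_subset_iff.2 (hmem _ hz)) (by
      rw [Set.image_singleton, Set.singleton_subset_iff]
      refine hmem _ ?_
      rw [map_mul, map_mul, map_inv, f.apply_symm_apply, f.apply_symm_apply, Qd.conj_trans]
      exact ⟨0, _, by rw [uMat_zero]⟩)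
  have hcB : ∀ i : Fin (n + 1), f (c i) ∈ lineStab (ZMod p) := by
    intro i
    induction i using Fin.induction with
    | zero => rw [hc0, map_one]; exact one_mem _
    | succ i ih =>
      obtain ⟨_, ⟨W, hW, rfl⟩, hx⟩ := hsteps i
      have := mul_mem (hstep W hW _ hx.2) ih
      rwa [← map_mul, inv_mul_cancel_right] at this
  have h1 := congrArg f (hlast _ rfl)
  rw [map_mul, map_mul, map_inv, map_mul, map_mul, map_inv, f.apply_symm_apply, f.apply_symm_apply] at h1
  have hl := hcB (Fin.last n)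
  obtain ⟨g, u, hg⟩ := Qd.el_surj (f (c (Fin.last n)))
  rw [hg] at h1 hl
  rw [Qd.conj_trans, Qd.conj_trans] at h1
  have h2 := congrFun (el_injective h1).2 1
  rw [loMat_mulVec, line_apply (g := g) (by
    have : (Qd.proj (Qd.el g u) : Matrix (Fin 2) (Fin 2) (ZMod p)) 1 0 = 0 := hl
    rwa [Qd.proj_el] at this)] at h2
  simp at h2

end ZMod

end Cfsg.Agent.Lib.SFourGeneral
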