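import Cfsg.Agent.Lib.SFourGeneral.Base
import Mathlib.Algebra.GroupWithZero.Action.Prod
import Mathlib.Algebra.Group.Action.End

/-!
Passing to the faithful action of a subgroup on an invariant subspace.
-/

set_option autoImplicit false
set_option linter.unusedSectionVars false
set_option linter.style.haveILetI false

namespace Cfsg.Agent.Lib.SFourGeneral

universe u v

/-- The statement proved by induction: no offenders in a Sylow `2`-subgroup, from none on a generating subspace. -/
def Goal (n : ℕ) : Prop :=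
  ∀ (G V : Type v) [Group G] [Finite G] [AddCommGroup V] [Finite V] [DistribMulAction G V] [FaithfulSMul G V],
    Nat.card G + Nat.card V ≤ n → (∀ v : V, v + v = 0) → ¬ Cfsg.Involves (Equiv.Perm (Fin 3)) G →
    ∀ (S : Sylow 2 G) (W : AddSubgroup V), (∀ s ∈ (S : Subgroup G), ∀ w ∈ W, s • w ∈ W) →
      Pr (S : Subgroup G) W →
      (∀ U : AddSubgroup V, W ≤ U → (∀ g : G, ∀ v ∈ U, g • v ∈ U) → U = ⊤) →
      Pr (S : Subgroup G) (⊤ : AddSubgroup V)

variable {G : Type u} [Group G] {V : Type v} [AddCommGroup V] [DistribMulAction G V]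

/-- The action on an invariant subspace. -/
@[reducible] def resAct (H : Subgroup G) (U : AddSubgroup V) (hU : ∀ h ∈ H, ∀ u ∈ U, h • u ∈ U) :
    DistribMulAction H U where
  smul h u := ⟨(h : G) • (u : V), hU h h.2 u u.2⟩
  one_smul u := Subtype.ext (one_smul G (u : V))
  mul_smul h h' u := Subtype.ext (mul_smul (h : G) (h' : G) (u : V))
  smul_zero h := Subtype.ext (smul_zero (h : G))
  smul_add h a b := Subtype.ext (smul_add (h : G) (a : V) (b : V))

/-- The homomorphism of the action on an invariant subspace. -/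
def resHom (H : Subgroup G) (U : AddSubgroup V) (hU : ∀ h ∈ H, ∀ u ∈ U, h • u ∈ U) : H →* Equiv.Perm U :=
  letI := resAct H U hU
  MulAction.toPermHom H U

theorem resHom_apply (H : Subgroup G) (U : AddSubgroup V) (hU : ∀ h ∈ H, ∀ u ∈ U, h • u ∈ U) (h : H) (u : U) :
    ((resHom H U hU h u : U) : V) = (h : G) • (u : V) := rfl

theorem not_involves_resHom (hfree : ¬ Cfsg.Involves (Equiv.Perm (Fin 3)) G) (H : Subgroup G) (U : AddSubgroup V)
    (hU : ∀ h ∈ H, ∀ u ∈ U, h • u ∈ U) : ¬ Cfsg.Involves (Equiv.Perm (Fin 3)) ↥(resHom H U hU).range := by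
  intro h
  obtain ⟨K, f, hf⟩ := Fusion.exists_surjective_of_involves h
  have h1 : Cfsg.Involves (Equiv.Perm (Fin 3)) H :=
    Fusion.involves_of_surjective (K.comap (resHom H U hU).rangeRestrict)
      (f.comp ((resHom H U hU).rangeRestrict.subgroupComap K))
      (hf.comp (MonoidHom.subgroupComap_surjective_of_surjective _ K (resHom H U hU).rangeRestrict_surjective))
  obtain ⟨L, g, hg⟩ := Fusion.exists_surjective_of_involves h1
  exact hfree (Fusion.involves_of_injective (H.subtype.comp L.subtype)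
    (H.subtype_injective.comp L.subtype_injective) g hg)

/-- The inductive statement for a subgroup acting on an invariant subspace. -/
theorem Goal.apply [Finite G] [Finite V] {n : ℕ} (ih : Goal.{v} n) (h2 : ∀ v : V, v + v = 0) (H : Subgroup G)
    (U : AddSubgroup V) (hU : ∀ h ∈ H, ∀ u ∈ U, h • u ∈ U)
    (hfree : ¬ Cfsg.Involves (Equiv.Perm (Fin 3)) ↥(resHom H U hU).range)
    (T : Sylow 2 H) (W : AddSubgroup V) (hWU : W ≤ U)
    (hTW : ∀ t ∈ ((T : Subgroup H).map H.subtype), ∀ w ∈ W, t • w ∈ W)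
    (hP : Pr ((T : Subgroup H).map H.subtype) W)
    (hspan : ∀ U' : AddSubgroup V, W ≤ U' → (∀ h ∈ H, ∀ v ∈ U', h • v ∈ U') → U ≤ U')
    (hn : Nat.card ↥(resHom H U hU).range + Nat.card U ≤ n) :
    Pr ((T : Subgroup H).map H.subtype) U := by
  classical
  haveI : Fact (Nat.Prime 2) := ⟨Nat.prime_two⟩
  set f := (resHom H U hU).rangeRestrict with hf
  letI : DistribMulAction ↥(resHom H U hU).range U :=
    { smul := fun g u => (g : Equiv.Perm U) u
      one_smul := fun _ => rfl
      mul_smul := fun _ _ _ => rfl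
      smul_zero := by
        rintro ⟨_, h, rfl⟩
        exact Subtype.ext (smul_zero (h : G))
      smul_add := by
        rintro ⟨_, h, rfl⟩ a b
        exact Subtype.ext (smul_add (h : G) (a : V) (b : V)) }
  haveI : FaithfulSMul ↥(resHom H U hU).range U := ⟨fun {a b} h => Subtype.ext (Equiv.ext h)⟩
  haveI : Finite ↥(resHom H U hU).range := Finite.of_surjective f (MonoidHom.rangeRestrict_surjective _)
  set T' := T.mapSurjective (MonoidHom.rangeRestrict_surjective (resHom H U hU)) with hT'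
  have hT'c : (T' : Subgroup ↥(resHom H U hU).range) = (T : Subgroup H).map f := Sylow.coe_mapSurjective _ _
  have hsm : ∀ (h : H) (u : U), ((f h • u : U) : V) = (h : G) • (u : V) := fun h u => rfl
  set W' := W.addSubgroupOf U with hW'
  have hfix : ∀ (R : Subgroup H) (X : AddSubgroup V),
      Nat.card ↥((X.addSubgroupOf U) ⊓ fixP (R.map f)) = Nat.card ↥((X ⊓ U) ⊓ fixP (R.map H.subtype)) := by
    intro R X
    rw [Nat.card_congr (AddSubgroup.equivMapOfInjective ((X.addSubgroupOf U) ⊓ fixP (R.map f)) U.subtype U.subtype_injective).toEquiv]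
    congr 2
    ext v
    constructor
    · rintro ⟨⟨v, hv⟩, ⟨hvX, hvR⟩, rfl⟩
      refine ⟨⟨hvX, hv⟩, ?_⟩
      rintro _ ⟨r, hr, rfl⟩
      exact congrArg Subtype.val (hvR (f r) ⟨r, hr, rfl⟩)
    · rintro ⟨⟨hvX, hv⟩, hvR⟩
      refine ⟨⟨v, hv⟩, ⟨hvX, ?_⟩, rfl⟩
      rintro _ ⟨r, hr, rfl⟩
      exact Subtype.ext (hvR _ ⟨r, hr, rfl⟩)
  have hidx : ∀ (R : Subgroup H) (X : AddSubgroup V), X ≤ U →
      (fixer (X.addSubgroupOf U)).relIndex (R.map f) = (fixer X).relIndex (R.map H.subtype) := by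
    intro R X hXU
    rw [← Subgroup.relIndex_comap, ← Subgroup.relIndex_comap]
    congr 1
    ext h
    simp only [Subgroup.mem_comap, mem_fixer]
    constructor
    · intro hh w hw
      exact congrArg Subtype.val (hh ⟨w, hXU hw⟩ hw)
    · intro hh w hw
      exact Subtype.ext (hh w hw)
  have hmem : ∀ (X : AddSubgroup V), X ≤ U → ∀ h : H, (h : G) ∈ fixer X ↔ f h ∈ fixer (X.addSubgroupOf U) := by
    intro X hXU h
    exact ⟨fun hh w hw => Subtype.ext (hh w hw), fun hh w hw => congrArg Subtype.val (hh ⟨w, hXU hw⟩ hw)⟩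
  have hcW : Nat.card W' = Nat.card W :=
    Nat.card_congr (AddSubgroup.addSubgroupOfEquivOfLe hWU).toEquiv
  have hmain := ih ↥(resHom H U hU).range U hn (fun u => Subtype.ext (h2 u)) hfree T' W' (by
      rw [hT'c]
      rintro _ ⟨t, ht, rfl⟩ w hw
      exact hTW _ ⟨t, ht, rfl⟩ w hw) (by
      rw [hT'c]
      intro R' hR' hsq hn'
      set R := R'.comap f ⊓ (T : Subgroup H) with hR
      have hRmap : R.map f = R' := by
        refine le_antisymm (by rintro _ ⟨r, hr, rfl⟩; exact hr.1) fun r' hr' => ?_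
        obtain ⟨t, ht, rfl⟩ := hR' hr'
        exact ⟨t, ⟨hr', ht⟩, rfl⟩
      have h0 := hP (R.map H.subtype) (Subgroup.map_mono inf_le_right) (by
          rintro _ ⟨r, hr, rfl⟩
          have := hsq (f r) hr.1
          rw [← map_mul] at this
          exact (hmem W hWU (r * r)).2 this)
        (fun h => hn' (hRmap ▸ by
          rintro _ ⟨r, hr, rfl⟩
          exact (hmem W hWU r).1 (h ⟨r, hr, rfl⟩)))
      rw [← hRmap, hidx R W hWU, hfix R W, inf_eq_left.2 hWU, hcW]
      exact h0)
    (fun U' hU' hinv => by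
      have h1 := hspan (U'.map U.subtype) (fun w hw => ⟨⟨w, hWU hw⟩, hU' hw, rfl⟩) (by
        rintro h hh _ ⟨u, hu, rfl⟩
        exact ⟨f ⟨h, hh⟩ • u, hinv _ u hu, rfl⟩)
      rw [eq_top_iff]
      intro u _
      obtain ⟨u', hu', he⟩ := h1 u.2
      rwa [← U.subtype_injective he])
  rw [hT'c] at hmain
  intro R hRT hsq hn'
  obtain ⟨R0, rfl⟩ : ∃ R0 : Subgroup H, R0.map H.subtype = R :=
    ⟨R.subgroupOf H, by
      rw [Subgroup.subgroupOf_map_subtype, inf_eq_left]
      exact hRT.trans (Subgroup.map_subtype_le _)⟩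
  have hR0 : R0 ≤ (T : Subgroup H) := (Subgroup.map_le_map_iff_of_injective H.subtype_injective).1 hRT
  have htop : U.addSubgroupOf U = ⊤ := AddSubgroup.addSubgroupOf_self _
  have h0 := hmain (R0.map f) (Subgroup.map_mono hR0) (by
      rintro _ ⟨r, hr, rfl⟩
      rw [← map_mul, ← htop]
      exact (hmem U le_rfl (r * r)).1 (hsq _ ⟨r, hr, rfl⟩))
    (fun h => hn' (by
      rintro _ ⟨r, hr, rfl⟩
      exact (hmem U le_rfl r).2 (htop.symm ▸ h ⟨r, hr, rfl⟩)))
  rw [← htop, hidx R0 U le_rfl, hfix R0 U, inf_idem, htop, AddSubgroup.card_top] at h0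
  exact h0

end Cfsg.Agent.Lib.SFourGeneral
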